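import Cfsg.Agent.Known.PSUThree.Sylow
import Cfsg.Agent.Classical.Unitary.IsoLines

/-!
The least index of a proper subgroup of a three-dimensional projective special unitary group.
-/

set_option autoImplicit false
set_option linter.style.haveILetI false
set_option maxHeartbeats 1000000

namespace Cfsg.Lib.Known.PSUThree

open Cfsg.Lib.Classical Cfsg.Lib.Components.UnitaryThree

variable {F : Type*} [Field F] [Fintype F] {q : ℕ} (hF : Fintype.card F = q ^ 2)

theorem card_isoPt_std (hq : 2 ≤ q) : Nat.card (stdHerm 3 hF).IsoPt = q ^ 3 + 1 := by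
  classical
  have hz := card_iso_nonzero hF 3
  rw [if_neg (by decide)] at hz
  have hu : Nat.card Fˣ = q ^ 2 - 1 := by rw [Nat.card_units, Nat.card_eq_fintype_card, hF]
  let f : (stdHerm 3 hF).IsoPt × Fˣ → {x : Fin 3 → F // Cfsg.hermForm 3 F q x x = 0 ∧ x ≠ 0} :=
    fun x => ⟨(x.2 : F) • x.1.1.rep, by
      rw [← stdHerm_h hF, (stdHerm 3 hF).smul_left, (stdHerm 3 hF).smul_right, x.1.2, mul_zero, mul_zero],
      smul_ne_zero x.2.ne_zero x.1.1.rep_nonzero⟩
  have hf : Function.Bijective f := by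
    refine ⟨?_, fun y => ?_⟩
    · rintro ⟨p, a⟩ ⟨p', a'⟩ h
      have e : (a : F) • p.1.rep = (a' : F) • p'.1.rep := congrArg Subtype.val h
      have hp : p = p' := by
        refine Subtype.ext ?_
        rw [← Projectivization.mk_rep p.1, ← Projectivization.mk_rep p'.1, Projectivization.mk_eq_mk_iff']
        exact ⟨(a : F)⁻¹ * a', by rw [mul_smul, ← e, smul_smul, inv_mul_cancel₀ a.ne_zero, one_smul]⟩
      subst hp
      exact Prod.ext rfl (Units.ext (smul_left_injective F p.1.rep_nonzero e))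
    · obtain ⟨c, hc⟩ := Projectivization.exists_smul_eq_mk_rep F y.1 y.2.2
      refine ⟨⟨(stdHerm 3 hF).isoMk y.1 y.2.2 (by rw [stdHerm_h]; exact y.2.1), c⁻¹⟩, Subtype.ext ?_⟩
      show ((c⁻¹ : Fˣ) : F) • (Projectivization.mk F y.1 y.2.2).rep = y.1
      rw [← hc, Units.smul_def, smul_smul, ← Units.val_mul, inv_mul_cancel, Units.val_one, one_smul]
  have h := Nat.card_eq_of_bijective f hf
  rw [Nat.card_prod, hu, hz] at h
  norm_num at h
  have : 4 ≤ q ^ 2 := by nlinarith
  exact h.resolve_right (by omega)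

theorem setup_std (hq : 3 ≤ q) : Setup (stdHerm 3 hF) where
  dim := Module.finrank_fin_fun F
  pow := fun x => by
    rw [stdHerm_q]
    exact powConj_apply hF x
  pts := by rw [stdHerm_q]; exact card_isoPt_std hF (by omega)
  three := by rw [stdHerm_q]; exact hq

theorem card_SIsom_std (hq : 3 ≤ q) :
    Nat.card (stdHerm 3 hF).SIsom = q ^ 3 * ((q ^ 3 + 1) * (q ^ 2 - 1)) := by
  have h := card_SU_mul hF (n := 3) (by norm_num)
  rw [← Nat.card_congr (suEquiv 3 hF).toEquiv] at h
  have e : cardGUFormula q 3 = (q + 1) * (q ^ 3 * ((q ^ 3 + 1) * (q ^ 2 - 1))) := by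
    simp [cardGUFormula, Finset.prod_range_succ, show Even 2 by decide]
    ring
  rw [e] at h
  exact Nat.eq_of_mul_eq_mul_left (by omega) h

include hF in
theorem min_index_PSU (hq : 3 ≤ q) (h5 : q ≠ 5) :
    (∀ H : Subgroup (Cfsg.PSU 3 F q), H ≠ ⊤ → q ^ 3 + 1 ≤ H.index) ∧
      ∃ H : Subgroup (Cfsg.PSU 3 F q), H.index = q ^ 3 + 1 := by
  classical
  have hS := setup_std hF hq
  haveI : Finite (stdHerm 3 hF).SIsom := finite_sisom
  let π : (stdHerm 3 hF).SIsom →* Cfsg.PSU 3 F q := (QuotientGroup.mk' _).comp (suEquiv 3 hF).toMonoidHom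
  have hπ : Function.Surjective π := (QuotientGroup.mk'_surjective _).comp (suEquiv 3 hF).surjective
  have hker : π.ker = Subgroup.center (stdHerm 3 hF).SIsom := by
    ext g
    rw [MonoidHom.mem_ker]
    show (QuotientGroup.mk (suEquiv 3 hF g) : Cfsg.PSU 3 F q) = 1 ↔ _
    rw [QuotientGroup.eq_one_iff]
    constructor
    · intro h1
      rw [Subgroup.mem_center_iff] at h1 ⊢
      intro k
      refine (suEquiv 3 hF).injective ?_
      rw [map_mul, map_mul, h1]
    · intro h1
      rw [Subgroup.mem_center_iff] at h1 ⊢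
      intro k
      obtain ⟨k, rfl⟩ := (suEquiv 3 hF).surjective k
      rw [← map_mul, ← map_mul, h1]
  refine ⟨fun H hH => ?_, ?_⟩
  · by_contra h
    have h1 := (H.comap π).card_mul_index
    rw [Subgroup.index_comap_of_surjective _ hπ, card_SIsom_std hF hq] at h1
    have hbig : (q ^ 3 + 1) * (q ^ 2 - 1) ≤ Nat.card (H.comap π) := by
      have h2 : H.index ≤ q ^ 3 := by omega
      refine Nat.le_of_mul_le_mul_left ?_ (show 0 < q ^ 3 by positivity)
      rw [← h1, mul_comm]
      exact Nat.mul_le_mul_right _ h2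
    have hb : Big (H.comap π) := { toSetup := hS, card := by rw [stdHerm_q]; exact hbig }
    have hZ : Subgroup.center (stdHerm 3 hF).SIsom ≤ H.comap π := hker ▸ MonoidHom.ker_le_comap π H
    have := congrArg (Subgroup.map π) (top_of_big hb (by rw [stdHerm_q]; exact h5) hZ)
    rw [Subgroup.map_comap_eq_self_of_surjective hπ, Subgroup.map_top_of_surjective _ hπ] at this
    exact hH this
  · haveI := (stdHerm 3 hF).isoPt_pretransitive
    haveI : Nonempty (stdHerm 3 hF).IsoPt :=
      (Nat.card_pos_iff.1 (show 0 < Nat.card (stdHerm 3 hF).IsoPt by rw [hS.pts]; exact Nat.succ_pos _)).1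
    obtain ⟨p⟩ := ‹Nonempty (stdHerm 3 hF).IsoPt›
    refine ⟨(MulAction.stabilizer (stdHerm 3 hF).SIsom p).map π, ?_⟩
    rw [Subgroup.index_map_eq _ hπ, MulAction.index_stabilizer_of_transitive, hS.pts, stdHerm_q]
    rw [hker]
    intro g hg
    obtain ⟨a, -, -, hx⟩ := ((stdHerm 3 hF).mem_center_SIsom_iff (by rw [hS.dim]; norm_num)).1 hg
    rw [MulAction.mem_stabilizer_iff]
    induction p using (stdHerm 3 hF).isoPt_ind with | h x hx0 hxx => ?_
    rw [HermSpace.smul_isoMk, HermSpace.isoMk_eq_iff]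
    exact ⟨a, (hx x).symm⟩

end Cfsg.Lib.Known.PSUThree
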