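import Cfsg.Agent.Known.PSUThree.Point

/-!
A large subgroup of a three-dimensional special unitary group permutes the isotropic points
transitively.
-/

set_option autoImplicit false
set_option linter.unusedSectionVars false
set_option linter.style.haveILetI false
set_option maxHeartbeats 1000000

namespace Cfsg.Lib.Known.PSUThree

open Cfsg.Lib.Classical Cfsg.Lib.Components.UnitaryThree

universe u v

variable {F : Type u} [Field F] [Finite F] {V : Type v} [AddCommGroup V] [Module F V]
  [FiniteDimensional F V] {H : HermSpace F V}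

/-- A subgroup of order at least `(q³+1)(q²-1)`. -/
structure Big (K : Subgroup H.SIsom) : Prop extends Setup H where
  card : (H.q ^ 3 + 1) * (H.q ^ 2 - 1) ≤ Nat.card K

variable (K : Subgroup H.SIsom)

/-- The stabiliser of the point in `K`. -/
noncomputable abbrev Lg (B : Frame H) : Subgroup H.SIsom := K ⊓ stE B
/-- The stabiliser of the vector in `K`. -/
noncomputable abbrev Ng (B : Frame H) : Subgroup H.SIsom := K ⊓ fixE B
/-- The root elements in `K`. -/
noncomputable abbrev Ag (B : Frame H) : Subgroup H.SIsom := K ⊓ H.rootGroup B.ee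

section
variable (hd : Module.finrank F V = 3) (B : Frame H)

/-- The eigenvalue on the point. -/
noncomputable def eaHom : Lg K B →* Fˣ :=
  MonoidHom.toHomUnits
    { toFun := fun g => ea B g.1
      map_one' := B.ef
      map_mul' := fun g k => ea_mul hd B g.2.2 k.2.2 }

theorem eaHom_apply (g : Lg K B) : (eaHom K hd B g : F) = ea B g.1 := rfl

/-- The eigenvalues on the point. -/
noncomputable def rng : Subgroup Fˣ := (eaHom K hd B).range

include hd

theorem card_L : Nat.card (Lg K B) = Nat.card (Ng K B) * Nat.card (rng K hd B) := by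
  have hle : Ng K B ≤ Lg K B := inf_le_inf_left _ (fixE_le_stE B)
  have hker : (eaHom K hd B).ker = (Ng K B).subgroupOf (Lg K B) := by
    ext g
    rw [MonoidHom.mem_ker, Subgroup.mem_subgroupOf]
    obtain ⟨he, -⟩ := coords hd B g.2.2
    constructor
    · intro h
      refine ⟨g.2.1, ?_⟩
      show g.1.1.1 B.e = B.e
      rw [he, show ea B g.1 = 1 from congrArg Units.val h, one_smul]
    · intro h
      refine Units.ext ?_
      rw [eaHom_apply, Units.val_one, ea, show g.1.1.1 B.e = B.e from h.2, B.ef]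
  rw [rng, ← Subgroup.index_ker, hker,
    ← Nat.card_congr (Subgroup.subgroupOfEquivOfLe hle).toEquiv, Subgroup.card_mul_index]

omit hd in
theorem rng_le (hd : Module.finrank F V = 3) : Nat.card (rng K hd B) ∣ H.q ^ 2 - 1 := by
  rw [← H.card_field, ← Nat.card_units]
  exact Subgroup.card_subgroup_dvd_card _

omit hd in
theorem card_K_orbit : Nat.card K = Nat.card (MulAction.orbit K (pt B)) * Nat.card (Lg K B) := by
  have h : MulAction.stabilizer K (pt B) = (stE B).subgroupOf K := Subgroup.ext fun x => Iff.rfl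
  rw [← Nat.card_congr (Subgroup.subgroupOfEquivOfLe (inf_le_left : Lg K B ≤ K)).toEquiv,
    Subgroup.inf_subgroupOf_left, ← h, ← MulAction.index_stabilizer_of_transitive (G := K)
      (X := MulAction.orbit K (pt B)) ⟨pt B, MulAction.mem_orbit_self _⟩, mul_comm]
  rw [show MulAction.stabilizer K (⟨pt B, MulAction.mem_orbit_self _⟩ : MulAction.orbit K (pt B)) =
    MulAction.stabilizer K (pt B) from Subgroup.ext fun x => by
      simp only [MulAction.mem_stabilizer_iff]
      exact Subtype.ext_iff, Subgroup.card_mul_index]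

variable (p : ℕ) [Fact p.Prime] [CharP F p]

theorem Ng_pgroup : IsPGroup p (Ng K B) := (fixE_pgroup hd B p).to_le inf_le_right

theorem Ag_pgroup : IsPGroup p (Ag K B) :=
  (fixE_pgroup hd B p).to_le (inf_le_right.trans (root_le_fixE B).1)

/-- Semiregularity of `N` gives congruences for orbit lengths. -/
theorem orbit_mod (hN : Ng K B ≠ ⊥) (x : H.IsoPt) :
    (pt B ∈ MulAction.orbit K x → Nat.card (MulAction.orbit K x) ≡ 1 [MOD p]) ∧
      (pt B ∉ MulAction.orbit K x → Nat.card (MulAction.orbit K x) ≡ 0 [MOD p]) := by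
  set P : Subgroup K := (Ng K B).subgroupOf K with hP
  have hPp : IsPGroup p P :=
    (Ng_pgroup K hd B p).of_equiv (Subgroup.subgroupOfEquivOfLe inf_le_left).symm
  have hmod := hPp.card_modEq_card_fixedPoints (MulAction.orbit K x)
  obtain ⟨k, hk, hk1⟩ : ∃ k ∈ Ng K B, k ≠ 1 := by
    by_contra! h
    exact hN ((Subgroup.eq_bot_iff_forall _).2 h)
  have hfix : ∀ y : MulAction.orbit K x,
      y ∈ MulAction.fixedPoints P (MulAction.orbit K x) ↔ y.1 = pt B := by
    intro y
    constructor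
    · intro hy
      exact fix_pt hd B hk.2 hk1 (congrArg Subtype.val (hy ⟨⟨k, hk.1⟩, hk⟩))
    · intro hy g
      refine Subtype.ext ?_
      show g.1.1 • y.1 = y.1
      rw [hy]
      exact fixE_le_stE B g.2.2
  refine ⟨fun hin => ?_, fun hout => ?_⟩
  · have : Nat.card (MulAction.fixedPoints P (MulAction.orbit K x)) = 1 := by
      rw [Nat.card_eq_one_iff_unique]
      refine ⟨⟨fun a b => Subtype.ext (Subtype.ext (((hfix a.1).1 a.2).trans ((hfix b.1).1 b.2).symm))⟩,
        ⟨⟨⟨pt B, hin⟩, (hfix _).2 rfl⟩⟩⟩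
    exact this ▸ hmod
  · have : IsEmpty (MulAction.fixedPoints P (MulAction.orbit K x)) :=
      ⟨fun y => hout ((hfix y.1).1 y.2 ▸ y.1.2)⟩
    have h0 : Nat.card (MulAction.fixedPoints P (MulAction.orbit K x)) = 0 := Nat.card_of_isEmpty
    exact h0 ▸ hmod

end

variable {K}
variable (hb : Big K)
include hb

theorem Big.L_ge' (B : Frame H) :
    H.q ^ 3 + 1 ≤ Nat.card (MulAction.orbit K (pt B)) ∨ H.q ^ 2 - 1 < Nat.card (Lg K B) := by
  by_contra! h
  have h1 := card_K_orbit K B
  have h2 := hb.card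
  have h3 : Nat.card (MulAction.orbit K (pt B)) * Nat.card (Lg K B) <
      (H.q ^ 3 + 1) * (H.q ^ 2 - 1) := by
    have hL : 0 < Nat.card (Lg K B) := Nat.card_pos
    exact Nat.mul_lt_mul_of_lt_of_le h.1 h.2 (by omega)
  omega

theorem Big.orbit_univ (B : Frame H) :
    MulAction.orbit K (pt B) = Set.univ := by
  classical
  obtain ⟨p, hp⟩ := CharP.exists F
  haveI : Fact p.Prime := ⟨CharP.char_is_prime F p⟩
  by_cases hN : Ng K B = ⊥
  · refine Set.eq_of_subset_of_ncard_le (Set.subset_univ _) ?_ (Set.toFinite _)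
    rw [Set.ncard_univ, hb.pts, ← Nat.card_coe_set_eq]
    refine (hb.L_ge' B).resolve_right fun h => ?_
    rw [card_L K hb.dim B, hN, Subgroup.card_bot, one_mul] at h
    have h2 := H.two_le_q
    have h3 : 4 ≤ H.q ^ 2 := by nlinarith
    exact absurd (Nat.le_of_dvd (by omega) (rng_le K B hb.dim)) (by omega)
  · refine Set.eq_univ_iff_forall.2 fun y => ?_
    obtain ⟨B', rfl⟩ := exists_frame_pt hb.dim y
    by_contra hout
    have hself := (orbit_mod K hb.dim B p hN (pt B)).1 (MulAction.mem_orbit_self _)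
    have hin : pt B ∉ MulAction.orbit K (pt B') := fun h => hout (by
      rw [MulAction.orbit_eq_iff.2 h]
      exact MulAction.mem_orbit_self _)
    by_cases hN' : Ng K B' = ⊥
    · have h0 := (orbit_mod K hb.dim B p hN (pt B')).2 hin
      have hfull := (hb.L_ge' B').resolve_right fun h => by
        rw [card_L K hb.dim B', hN', Subgroup.card_bot, one_mul] at h
        have h2 := H.two_le_q
        have h3 : 4 ≤ H.q ^ 2 := by nlinarith
        exact absurd (Nat.le_of_dvd (by omega) (rng_le K B' hb.dim)) (by omega)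
      have huniv : MulAction.orbit K (pt B') = Set.univ :=
        Set.eq_of_subset_of_ncard_le (Set.subset_univ _)
          (by rw [Set.ncard_univ, hb.pts, ← Nat.card_coe_set_eq]; exact hfull) (Set.toFinite _)
      exact hin (huniv ▸ Set.mem_univ _)
    · have h0 := (orbit_mod K hb.dim B' p hN' (pt B)).2 hout
      have h1 := h0.symm.trans hself
      rw [Nat.modEq_iff_dvd' (Nat.zero_le 1)] at h1
      exact (Fact.out : p.Prime).one_lt.ne' (Nat.dvd_one.1 h1)

theorem Big.exists_map (B B' : Frame H) : ∃ g ∈ K, g • pt B = pt B' := by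
  obtain ⟨g, hg⟩ := (hb.orbit_univ B).ge (Set.mem_univ (pt B'))
  exact ⟨g.1, g.2, hg⟩

theorem Big.card_eq (B : Frame H) : Nat.card K = (H.q ^ 3 + 1) * Nat.card (Lg K B) := by
  rw [card_K_orbit K B, Nat.card_coe_set_eq, hb.orbit_univ B, Set.ncard_univ, hb.pts]

theorem Big.L_ge (B : Frame H) : H.q ^ 2 - 1 ≤ Nat.card (Lg K B) := by
  have h := hb.card
  rw [hb.card_eq B] at h
  exact Nat.le_of_mul_le_mul_left h (Nat.succ_pos _)

omit hb in
/-- The image of a frame. -/
def mapFrame (g : H.SIsom) (B : Frame H) : Frame H :=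
  ⟨g.1.1 B.e, g.1.1 B.w, g.1.1 B.f, by rw [H.map_form, B.ee], by rw [H.map_form, B.ff],
    by rw [H.map_form, B.ef], by rw [H.map_form, B.ww], by rw [H.map_form, B.we],
    by rw [H.map_form, B.wf]⟩

omit hb in
theorem pt_mapFrame (g : H.SIsom) (B : Frame H) : pt (mapFrame g B) = g • pt B :=
  (HermSpace.smul_isoMk H g B.e B.e_ne B.ee).symm

theorem Big.data_le (B B' : Frame H) :
    Nat.card (Ag K B) ≤ Nat.card (Ag K B') ∧ Nat.card (Ng K B) ≤ Nat.card (Ng K B') ∧
      rng K hb.dim B ≤ rng K hb.dim B' := by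
  obtain ⟨g, hg, e⟩ := hb.exists_map B B'
  have hp : pt (mapFrame g B) = pt B' := (pt_mapFrame g B).trans e
  have hK : ∀ x ∈ K, g * x * g⁻¹ ∈ K := fun x hx => mul_mem (mul_mem hg hx) (inv_mem hg)
  have happ : ∀ (x : H.SIsom) (v : V), (g * x * g⁻¹).1.1 (g.1.1 v) = g.1.1 (x.1.1 v) := fun x v => by
    rw [H.smul_mul_apply, show (g⁻¹).1.1 (g.1.1 v) = v from H.inv_apply_self g.1 v, H.smul_mul_apply]
  refine ⟨?_, ?_, ?_⟩
  · refine Nat.card_le_card_of_injective (fun x => ⟨g * x.1 * g⁻¹, hK _ x.2.1, ?_⟩) fun x y h =>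
      Subtype.ext (mul_left_cancel (mul_right_cancel (congrArg Subtype.val h)))
    rw [← root_congr hp]
    obtain ⟨hc, hx⟩ := root_eq_sT B x.2.2
    rw [hx, H.sT_conj]
    exact ⟨_, hc, rfl⟩
  · refine Nat.card_le_card_of_injective (fun x => ⟨g * x.1 * g⁻¹, hK _ x.2.1, ?_⟩) fun x y h =>
      Subtype.ext (mul_left_cancel (mul_right_cancel (congrArg Subtype.val h)))
    rw [← fixE_congr hp]
    show (g * x.1 * g⁻¹).1.1 (g.1.1 B.e) = g.1.1 B.e
    rw [happ, show x.1.1.1 B.e = B.e from x.2.2]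
  · rintro _ ⟨x, rfl⟩
    obtain ⟨hxe, -⟩ := coords hb.dim B x.2.2
    have hmem : g * x.1 * g⁻¹ ∈ stE (mapFrame g B) := mem_stE.2 ⟨ea B x.1, by
      show (g * x.1 * g⁻¹).1.1 (g.1.1 B.e) = _
      rw [happ, hxe, map_smul]
      rfl⟩
    have hval : ea B' (g * x.1 * g⁻¹) = ea B x.1 := by
      rw [← ea_congr hp hmem]
      show H.h ((g * x.1 * g⁻¹).1.1 (g.1.1 B.e)) (g.1.1 B.f) = _
      rw [happ, H.map_form]
      rfl
    exact ⟨⟨g * x.1 * g⁻¹, hK _ x.2.1, stE_congr hp ▸ hmem⟩, Units.ext hval⟩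

theorem Big.card_Ag (B B' : Frame H) : Nat.card (Ag K B) = Nat.card (Ag K B') :=
  le_antisymm (hb.data_le B B').1 (hb.data_le B' B).1

theorem Big.card_Ng (B B' : Frame H) : Nat.card (Ng K B) = Nat.card (Ng K B') :=
  le_antisymm (hb.data_le B B').2.1 (hb.data_le B' B).2.1

theorem Big.rng_eq (B B' : Frame H) : rng K hb.dim B = rng K hb.dim B' :=
  le_antisymm (hb.data_le B B').2.2 (hb.data_le B' B).2.2

theorem Big.card_Lg (B B' : Frame H) : Nat.card (Lg K B) = Nat.card (Lg K B') := by
  rw [card_L K hb.dim B, card_L K hb.dim B', hb.card_Ng B B', hb.rng_eq B B']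

omit hb in
theorem card_skew : Nat.card {c : F // c + H.σ c = 0} = H.q := by
  obtain ⟨ε, hε0, hε⟩ := H.conj.exists_skew
  refine Nat.card_congr
    { toFun := fun c => ⟨c.1 / ε, ?_⟩
      invFun := fun s => ⟨s.1 * ε, ?_⟩
      left_inv := fun c => Subtype.ext (div_mul_cancel₀ _ hε0)
      right_inv := fun s => Subtype.ext (mul_div_cancel_right₀ _ hε0) }
  · rw [mem_fixedField, map_div₀, eq_neg_of_add_eq_zero_right hε, eq_neg_of_add_eq_zero_right c.2,
      neg_div_neg_eq]
  · rw [map_mul, show H.σ (s.1 : F) = s.1 from s.2, ← mul_add, hε, mul_zero]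

omit hb in
theorem root_inj (hd : Module.finrank F V = 3) (B : Frame H) :
    Function.Injective (fun x : H.rootGroup B.ee =>
      (⟨ec B x.1, (root_eq_sT B x.2).choose⟩ : {c : F // c + H.σ c = 0})) := fun x y h =>
  Subtype.ext (ext_fixE hd B ((root_le_fixE B).1 x.2) ((root_le_fixE B).1 y.2)
    (((root_le_fixE B).2 _ x.2).trans ((root_le_fixE B).2 _ y.2).symm) (congrArg Subtype.val h))

omit hb in
theorem card_root_le (hd : Module.finrank F V = 3) (B : Frame H) :
    Nat.card (H.rootGroup B.ee) ≤ H.q :=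
  (Nat.card_le_card_of_injective _ (root_inj hd B)).trans card_skew.le

theorem Big.top_of_root (B : Frame H) (hA : H.q ≤ Nat.card (Ag K B)) : K = ⊤ := by
  rw [eq_top_iff, ← (H.unitaryIwasawa (Or.inr ⟨hb.dim, hb.three⟩)).is_generator]
  refine iSup_le fun p => ?_
  obtain ⟨B', hB'⟩ := exists_frame_pt hb.dim p
  have hle : H.rootGroup B'.ee ≤ K := by
    have := Subgroup.eq_of_le_of_card_ge (inf_le_right : Ag K B' ≤ H.rootGroup B'.ee)
      ((card_root_le hb.dim B').trans (hA.trans (hb.card_Ag B B').le))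
    exact this ▸ inf_le_left
  obtain ⟨a, ha⟩ := Projectivization.exists_smul_eq_mk_rep F B'.e B'.e_ne
  rw [← hB']
  show H.rootGroup (pt B').2 ≤ K
  rw [H.rootGroup_eq_of_smul B'.ee (pt B').2 a.ne_zero (by rw [← Units.smul_def, ha]; rfl)]
  exact hle

end Cfsg.Lib.Known.PSUThree
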