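import Cfsg.Agent.Known.PSUThree.Chord

/-!
Chord stabilisers of a large subgroup are transitive on the isotropic points of their chord.
-/

set_option autoImplicit false
set_option linter.unusedSectionVars false
set_option linter.style.haveILetI false
set_option maxHeartbeats 1000000

namespace Cfsg.Lib.Known.PSUThree

open Cfsg.Lib.Classical Cfsg.Lib.Components.UnitaryThree

universe u v

variable {F : Type u} [Field F] [Finite F] {V : Type v} [AddCommGroup V] [Module F V]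
  [FiniteDimensional F V] {H : HermSpace F V}

theorem q_pow (p : ℕ) [Fact p.Prime] [CharP F p] : ∃ k, H.q = p ^ k := by
  haveI := Fintype.ofFinite F
  obtain ⟨n, hp, hn⟩ := FiniteField.card F p
  have h := H.card_field
  rw [Nat.card_eq_fintype_card, hn] at h
  obtain ⟨k, -, hk⟩ := (Nat.dvd_prime_pow hp).1 (h ▸ dvd_pow_self H.q two_ne_zero : H.q ∣ p ^ (n : ℕ))
  exact ⟨k, hk⟩

theorem isotropic_in (hd : Module.finrank F V = 3) {W : Submodule F V}
    (hW : 2 ≤ Module.finrank F W) : ∃ x ∈ W, x ≠ 0 ∧ H.h x x = 0 := by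
  haveI : Nontrivial W := Module.nontrivial_of_finrank_pos (R := F) (by omega)
  obtain ⟨x, hx0⟩ := exists_ne (0 : W)
  by_cases hxx : H.h x.1 x.1 = 0
  · exact ⟨x, x.2, fun h => hx0 (Subtype.ext h), hxx⟩
  obtain ⟨z, hzW, hz⟩ : ∃ z ∈ W, z ∉ Submodule.span F {x.1} := by
    by_contra! h
    have h1 := Submodule.finrank_mono (show W ≤ Submodule.span F {x.1} from h)
    rw [finrank_span_singleton (fun h => hx0 (Subtype.ext h))] at h1
    omega
  obtain ⟨y, hy⟩ : ∃ y, y = z - (H.h z x.1 / H.h x.1 x.1) • x.1 := ⟨_, rfl⟩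
  have hyW : y ∈ W := hy ▸ sub_mem hzW (W.smul_mem _ x.2)
  have hy0 : y ≠ 0 := fun h => hz (by
    rw [hy, sub_eq_zero] at h
    rw [h]
    exact Submodule.smul_mem _ _ (Submodule.subset_span rfl))
  have hyx : H.h y x.1 = 0 := by rw [hy, H.sub_left, H.smul_left, div_mul_cancel₀ _ hxx, sub_self]
  by_cases hyy : H.h y y = 0
  · exact ⟨y, hyW, hy0, hyy⟩
  obtain ⟨a, ha⟩ := H.conj.norm_surjective (a := -(H.h y y / H.h x.1 x.1))
    (by rw [map_neg, map_div₀, H.self_fixed, H.self_fixed])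
  refine ⟨y + a • x.1, add_mem hyW (W.smul_mem _ x.2), fun h => ?_, ?_⟩
  · have h1 := congrArg (fun t => H.h t x.1) h
    simp only [H.add_left, H.smul_left, hyx, zero_add, H.zero_left, mul_eq_zero, or_iff_left hxx] at h1
    rw [h1, zero_smul, add_zero] at h
    exact hy0 h
  · rw [H.add_left, H.add_right, H.add_right, H.smul_left, H.smul_left, H.smul_right, H.smul_right,
      hyx, H.eq_zero_symm hyx]
    have : a * H.σ a * H.h x.1 x.1 = -H.h y y := by rw [ha]; field_simp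
    linear_combination this

/-- An element with square one has an eigenspace of dimension at least two. -/
theorem big_eig (hd : Module.finrank F V = 3) {t : H.SIsom} (ht : t * t = 1) :
    ∃ (W : Submodule F V) (s : F), 2 ≤ Module.finrank F W ∧ ∀ x ∈ W, t.1.1 x = s • x := by
  set D : V →ₗ[F] V := t.1.1.toLinearMap - LinearMap.id with hD
  set S : V →ₗ[F] V := t.1.1.toLinearMap + LinearMap.id with hS
  have hrk := D.finrank_range_add_finrank_ker
  rw [hd] at hrk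
  have hle : LinearMap.range D ≤ LinearMap.ker S := by
    rintro _ ⟨x, rfl⟩
    have htt : t.1.1 (t.1.1 x) = x := by rw [← H.smul_mul_apply, ht]; rfl
    simp [hD, hS, htt]
  have h1 := Submodule.finrank_mono hle
  by_cases h2 : 2 ≤ Module.finrank F (LinearMap.ker D)
  · refine ⟨_, 1, h2, fun x hx => ?_⟩
    rw [LinearMap.mem_ker] at hx
    rw [one_smul]
    simpa [hD, sub_eq_zero] using hx
  · refine ⟨LinearMap.ker S, -1, by omega, fun x hx => ?_⟩
    rw [LinearMap.mem_ker] at hx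
    rw [neg_smul, one_smul]
    exact eq_neg_of_add_eq_zero_left (by simpa [hS] using hx)

variable {K : Subgroup H.SIsom} (hb : Big K)
include hb

/-- Transitivity when root elements are present. -/
theorem trans_root (B : Frame H) (hA : 2 ≤ Nat.card (Ag K B)) (x y : V) (hx0 : x ≠ 0) (hy0 : y ≠ 0)
    (hx : H.h x B.w = 0) (hy : H.h y B.w = 0) (hxx : H.h x x = 0) (hyy : H.h y y = 0) :
    ∃ m ∈ Mg K B, ∃ t : F, m.1.1 x = t • y := by
  obtain ⟨p, hp⟩ := CharP.exists F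
  haveI : Fact p.Prime := ⟨CharP.char_is_prime F p⟩
  obtain ⟨C, hCe, hC⟩ := frame_at hb.dim B hx hx0 hxx
  obtain ⟨C', hCe', hC'⟩ := frame_at hb.dim B hy hy0 hyy
  have hne : ∀ D : Frame H, D.w = B.w → Ng (Mg K B) D ≠ ⊥ := by
    intro D hD hbot
    have h1 : Ag K D = ⊥ := eq_bot_iff.2 (hbot ▸ le_inf (Ag_le_Mg K B hD)
      (inf_le_right.trans (root_le_fixE D).1))
    have h2 := hb.card_Ag B D
    rw [h1, Subgroup.card_bot] at h2
    omega
  have hin : pt C' ∈ MulAction.orbit (Mg K B) (pt C) := by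
    by_contra hout
    have h1 := (orbit_mod (Mg K B) hb.dim C p (hne C hC) (pt C)).1 (MulAction.mem_orbit_self _)
    have h0 := (orbit_mod (Mg K B) hb.dim C' p (hne C' hC') (pt C)).2 hout
    have h2 := h0.symm.trans h1
    rw [Nat.modEq_iff_dvd' (Nat.zero_le 1)] at h2
    exact (Fact.out : p.Prime).one_lt.ne' (Nat.dvd_one.1 h2)
  obtain ⟨m, hm⟩ := hin
  refine ⟨m.1, m.2, ?_⟩
  have hm' : m.1 • pt C = pt C' := hm
  rw [pt, pt, HermSpace.smul_isoMk, HermSpace.isoMk_eq_iff, hCe, hCe'] at hm'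
  obtain ⟨t, ht⟩ := hm'
  exact ⟨t, ht.symm⟩

variable (hA : ∀ C : Frame H, Nat.card (Ag K C) = 1)
include hA

theorem eb_inj (B : Frame H) {g : H.SIsom} (hg : g ∈ Ng K B) (h0 : eb B g = 0) : g = 1 := by
  have hmem : g ∈ Ag K B := ⟨hg.1, mem_root_of_eb hb.dim B hg.2 h0⟩
  rw [Subgroup.eq_bot_of_card_eq _ (hA B), Subgroup.mem_bot] at hmem
  exact hmem

theorem Ng_comm (B : Frame H) {g k : H.SIsom} (hg : g ∈ Ng K B) (hk : k ∈ Ng K B) : g * k = k * g := by
  have hmem : g * k * (k * g)⁻¹ ∈ Ng K B := mul_mem (mul_mem hg hk) (inv_mem (mul_mem hk hg))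
  refine mul_inv_eq_one.1 (eb_inj hb hA B hmem ?_)
  have h1 := (eb_mul hb.dim B (g := g * k * (k * g)⁻¹) hmem.2 (mul_mem hk.2 hg.2)).1
  rw [inv_mul_cancel_right, (eb_mul hb.dim B hg.2 hk.2).1, (eb_mul hb.dim B hk.2 hg.2).1] at h1
  linear_combination -h1

theorem line_eq (B : Frame H) {g k : H.SIsom} (hg : g ∈ Ng K B) (hk : k ∈ Ng K B) :
    H.σ (eb B k) * eb B g = H.σ (eb B g) * eb B k := by
  have h := congrArg (ec B) (Ng_comm hb hA B hg hk)
  rw [(eb_mul hb.dim B hg.2 hk.2).2, (eb_mul hb.dim B hk.2 hg.2).2] at h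
  linear_combination -h

omit hA hb in
theorem Ng_ne_one {B : Frame H} (h : Nat.card (Ng K B) ≠ 1) : ∃ g ∈ Ng K B, g ≠ 1 := by
  by_contra! h'
  exact h ((Subgroup.eq_bot_iff_forall _).2 h' ▸ Subgroup.card_bot)

theorem two_cases (B : Frame H) :
    (Nat.card (Ng K B) = 1 ∧ Nat.card (rng K hb.dim B) = H.q ^ 2 - 1) ∨
      (H.q % 2 = 1 ∧ H.q % 3 = 2 ∧ Nat.card (Ng K B) = H.q ∧
        ∃ j, (j = 1 ∨ j = 2) ∧ j * Nat.card (rng K hb.dim B) = 3 * (H.q - 1) ∧
          Even (Nat.card (rng K hb.dim B))) := by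
  have hd := hb.dim
  have hL := hb.L_ge B
  rw [card_L K hd B] at hL
  have hq3 := hb.three
  have hsq : 9 ≤ H.q ^ 2 := by nlinarith
  have he := rng_le K B hd
  have hele := Nat.le_of_dvd (by omega) he
  by_cases hN1 : Nat.card (Ng K B) = 1
  · left
    rw [hN1, one_mul] at hL
    exact ⟨hN1, le_antisymm hele hL⟩
  right
  obtain ⟨p, hp⟩ := CharP.exists F
  haveI : Fact p.Prime := ⟨CharP.char_is_prime F p⟩
  obtain ⟨k, hk⟩ := q_pow (H := H) p
  obtain ⟨g0, hg0, hg01⟩ := Ng_ne_one hN1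
  have hb0 : eb B g0 ≠ 0 := fun h => hg01 (eb_inj hb hA B hg0 h)
  have hp2 : p ≠ 2 := by
    intro h2
    have h20 : (2 : F) = 0 := by
      have := CharP.cast_eq_zero F p
      rw [h2] at this
      exact_mod_cast this
    have hgg : g0 * g0 = 1 := eb_inj hb hA B (mul_mem hg0 hg0) (by
      rw [(eb_mul hd B hg0.2 hg0.2).1]
      linear_combination (eb B g0) * h20)
    have h := (eb_mul hd B hg0.2 hg0.2).2
    rw [hgg, (eb_one B).2] at h
    have h3 : H.σ (eb B g0) * eb B g0 = 0 := by linear_combination h + (ec B g0) * h20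
    rcases mul_eq_zero.1 h3 with h4 | h4
    · exact hb0 (H.conj.eq_zero.1 h4)
    · exact hb0 h4
  have hodd : H.q % 2 = 1 := by
    rw [hk]
    exact Nat.odd_iff.1 (((Fact.out : p.Prime).odd_of_ne_two hp2).pow)
  -- the translation parts lie on one line over the fixed field
  have hNq : Nat.card (Ng K B) ≤ H.q := by
    rw [← card_fixed (H := H)]
    refine Nat.card_le_card_of_injective (fun k : Ng K B => (⟨eb B k.1 / eb B g0, ?_⟩ : {a : F // H.σ a = a}))
      fun k k' h => ?_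
    · have hl := line_eq hb hA B hg0 k.2
      rw [map_div₀, div_eq_div_iff ((map_ne_zero _).2 hb0) hb0]
      linear_combination hl
    · have h' : eb B k.1 = eb B k'.1 := by
        have := congrArg Subtype.val h
        field_simp at this
        exact this
      refine Subtype.ext (mul_inv_eq_one.1 (eb_inj hb hA B (mul_mem k.2 (inv_mem k'.2)) ?_))
      have h1 := (eb_mul hd B (g := k.1 * k'.1⁻¹) (mul_mem k.2.2 (inv_mem k'.2.2)) k'.2.2).1
      rw [inv_mul_cancel_right, h'] at h1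
      linear_combination -h1
  have hcube : ∀ g : Lg K B, ea B g.1 ^ (3 * (H.q - 1)) = 1 := by
    intro g
    obtain ⟨-, ha0, -⟩ := coords hd B g.2.2
    have hed := ed_mul_ea hd B g.2.2
    have hb' := conj_eb hd B g.2.2 hg0.2
    have hmem : g.1 * g0 * g.1⁻¹ ∈ Ng K B :=
      ⟨K.mul_mem (K.mul_mem g.2.1 hg0.1) (K.inv_mem g.2.1), conj_mem_fixE hd B g.2.2 hg0.2⟩
    have hl := line_eq hb hA B hg0 hmem
    set a := ea B g.1
    set b' := eb B (g.1 * g0 * g.1⁻¹)
    set b := eb B g0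
    have h1 : H.σ a * b' = a * a * b := by linear_combination a * hb' - b' * hed
    have h2 := congrArg H.σ h1
    rw [map_mul, map_mul, map_mul, H.conj.invol] at h2
    have hσa : H.σ a ≠ 0 := (map_ne_zero _).2 ha0
    have hσb : H.σ b ≠ 0 := (map_ne_zero _).2 hb0
    have hs : H.σ a * H.σ a * H.σ a = a * a * a := by
      refine mul_right_cancel₀ (mul_ne_zero hσb hb0) ?_
      linear_combination (-(H.σ a * b)) * h2 + (H.σ a * a) * hl + (a * H.σ b) * h1
    rw [hb.pow] at hs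
    refine mul_right_cancel₀ (pow_ne_zero 3 ha0) ?_
    rw [one_mul, ← pow_add, show 3 * (H.q - 1) + 3 = H.q + H.q + H.q by omega, pow_add, pow_add, hs]
    ring
  have hedvd : Nat.card (rng K hd B) ∣ 3 * (H.q - 1) := by
    haveI : IsCyclic (rng K hd B) := inferInstance
    obtain ⟨u, hu⟩ := IsCyclic.exists_generator (α := rng K hd B)
    rw [← orderOf_eq_card_of_forall_mem_zpowers hu]
    refine orderOf_dvd_of_pow_eq_one (Subtype.ext (Units.ext ?_))
    obtain ⟨g, hg⟩ := u.2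
    have hg' : (u.1 : F) = ea B g.1 := by rw [← hg, eaHom_apply]
    rw [Subgroup.coe_pow, Units.val_pow_eq_pow_val, hg', hcube g]
    rfl
  set e := Nat.card (rng K hd B)
  set N := Nat.card (Ng K B)
  have hfac : H.q ^ 2 - 1 = (H.q - 1) * (H.q + 1) := by
    rw [mul_comm, ← Nat.sq_sub_sq, one_pow]
  have hq1 : 1 < H.q + 1 := by omega
  have hmod : H.q % 3 = 2 := by
    by_contra hne
    have h1 : e ∣ H.q - 1 := by
      have := Nat.dvd_gcd (mul_comm 3 (H.q - 1) ▸ hedvd) (hfac ▸ he)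
      rw [Nat.gcd_mul_left, Nat.Prime.coprime_iff_not_dvd Nat.prime_three |>.2 (by omega) |>.gcd_eq_one,
        mul_one] at this
      exact this
    have h2 := Nat.le_of_dvd (by omega) h1
    rw [hfac] at hL
    have h3 : N * e ≤ H.q * (H.q - 1) := Nat.mul_le_mul hNq h2
    rw [mul_comm H.q] at h3
    have h4 := hL.trans h3
    have := Nat.le_of_mul_le_mul_left h4 (by omega)
    omega
  have h3le : e ≤ 3 * (H.q - 1) := Nat.le_of_dvd (by omega) hedvd
  have hN : N = H.q := by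
    obtain ⟨i, hi⟩ := (IsPGroup.iff_card.1 (Ng_pgroup K hd B p))
    by_contra hne
    have hlt : N < H.q := lt_of_le_of_ne hNq hne
    have hp3 : 3 ≤ p := by have := (Fact.out : p.Prime).two_le; omega
    have hik : i < k := (Nat.pow_lt_pow_iff_right (Fact.out : p.Prime).one_lt).1 (hi ▸ hk ▸ hlt)
    have h3N : 3 * N ≤ H.q := by
      rw [show N = p ^ i from hi, hk]
      calc 3 * p ^ i ≤ p * p ^ i := Nat.mul_le_mul_right _ hp3
        _ = p ^ (i + 1) := by rw [pow_succ']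
        _ ≤ p ^ k := Nat.pow_le_pow_right (Fact.out : p.Prime).pos hik
    have h5 : N * e ≤ N * (3 * (H.q - 1)) := Nat.mul_le_mul_left _ h3le
    rw [hfac] at hL
    have h6 : N * (3 * (H.q - 1)) ≤ H.q * (H.q - 1) := by
      rw [← mul_assoc, mul_comm N 3]
      exact Nat.mul_le_mul_right _ h3N
    rw [mul_comm H.q] at h6
    have := Nat.le_of_mul_le_mul_left (hL.trans (h5.trans h6)) (by omega)
    omega
  obtain ⟨j, hj⟩ := hedvd
  have hj2 : j = 1 ∨ j = 2 := by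
    rw [hN, hfac] at hL
    have h1 : j * ((H.q - 1) * (H.q + 1)) ≤ (H.q - 1) * (3 * H.q) := by
      calc j * ((H.q - 1) * (H.q + 1)) ≤ j * (H.q * e) := Nat.mul_le_mul_left _ hL
        _ = H.q * (e * j) := by ring
        _ = (H.q - 1) * (3 * H.q) := by rw [← hj]; ring
    rw [← mul_assoc, mul_comm j, mul_assoc] at h1
    have h2 := Nat.le_of_mul_le_mul_left h1 (by omega)
    have hj0 : j ≠ 0 := fun h => by rw [h, mul_zero] at hj; omega
    have : j ≤ 2 := by
      by_contra! h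
      have : 3 * (H.q + 1) ≤ j * (H.q + 1) := Nat.mul_le_mul_right _ h
      omega
    omega
  -- an involution fixes an isotropic point
  have heven : 2 ∣ Nat.card K := by
    rw [hb.card_eq B]
    refine dvd_mul_of_dvd_left (Nat.dvd_of_mod_eq_zero ?_) _
    rw [Nat.add_mod, Nat.pow_mod, hodd]
  haveI : Fact (Nat.Prime 2) := ⟨Nat.prime_two⟩
  obtain ⟨t, ht⟩ := exists_prime_orderOf_dvd_card' 2 heven
  have htt : t.1 * t.1 = 1 := by
    have := pow_orderOf_eq_one t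
    rw [ht, pow_two] at this
    exact congrArg Subtype.val this
  obtain ⟨W, s, hW, hs⟩ := big_eig hd htt
  obtain ⟨x, hxW, hx0, hxx⟩ := isotropic_in (H := H) hd hW
  obtain ⟨C, hC⟩ := exists_frame hd hx0 hxx
  have htL : t.1 ∈ Lg K C := ⟨t.2, mem_stE.2 ⟨s, by rw [hC]; exact hs x hxW⟩⟩
  have h2L : 2 ∣ Nat.card (Lg K C) := by
    rw [← ht, ← Subgroup.orderOf_coe, ← Subgroup.orderOf_mk t.1 htL]
    exact orderOf_dvd_natCard _
  rw [hb.card_Lg C B, card_L K hd B] at h2L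
  refine ⟨hodd, hmod, hN, j, hj2, by rw [mul_comm]; exact hj.symm, ?_⟩
  rw [show Nat.card (Ng K B) = H.q from hN] at h2L
  exact even_iff_two_dvd.2 ((Nat.prime_two.dvd_mul.1 h2L).resolve_left (by omega))

theorem exists_eta (B : Frame H) :
    ∃ g : Lg K B, ea B g.1 ^ (H.q + 1) = 1 ∧ ea B g.1 ^ 3 ≠ 1 := by
  have hq3 := hb.three
  obtain ⟨m, hme, hmq, hm3⟩ : ∃ m, m ∣ Nat.card (rng K hb.dim B) ∧ m ∣ H.q + 1 ∧ 3 < m := by
    rcases two_cases hb hA B with ⟨-, he⟩ | ⟨hodd, hmod, -, j, hj, hje, heven⟩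
    · refine ⟨H.q + 1, ?_, dvd_refl _, by omega⟩
      rw [he, show H.q ^ 2 - 1 = (H.q + 1) * (H.q - 1) by rw [← Nat.sq_sub_sq, one_pow]]
      exact Dvd.intro _ rfl
    · refine ⟨6, ?_, by omega, by norm_num⟩
      obtain ⟨i, hi⟩ := heven
      rcases hj with rfl | rfl <;> omega
  haveI : IsCyclic (rng K hb.dim B) := inferInstance
  obtain ⟨u, hu⟩ := IsCyclic.exists_generator (α := rng K hb.dim B)
  have hord := orderOf_eq_card_of_forall_mem_zpowers hu
  obtain ⟨c, hc⟩ := hme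
  have hcpos : c ≠ 0 := fun h => by
    rw [h, mul_zero] at hc
    exact Nat.card_pos.ne' hc
  have hpow : orderOf (u ^ c) = m := by
    rw [orderOf_pow' u hcpos, hord, hc, Nat.gcd_mul_left_left, Nat.mul_div_cancel _ (Nat.pos_of_ne_zero hcpos)]
  obtain ⟨g, hg⟩ := (u ^ c).2
  refine ⟨g, ?_, fun h3 => ?_⟩
  · have h := orderOf_dvd_iff_pow_eq_one.1 (hpow ▸ hmq : orderOf (u ^ c) ∣ H.q + 1)
    have h' := congrArg (fun x : rng K hb.dim B => ((x.1 : Fˣ) : F)) h
    simp only [Subgroup.coe_pow, Units.val_pow_eq_pow_val, Subgroup.coe_one, Units.val_one] at h'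
    rw [← eaHom_apply K hb.dim B g, hg, Subgroup.coe_pow, Units.val_pow_eq_pow_val]
    exact h'
  · have h : (u ^ c) ^ 3 = 1 := Subtype.ext (Units.ext (by
      rw [Subgroup.coe_pow, Units.val_pow_eq_pow_val, ← hg, eaHom_apply, h3]
      rfl))
    have := Nat.le_of_dvd (by norm_num) (hpow ▸ orderOf_dvd_of_pow_eq_one h)
    omega

omit hA in
/-- Adjusting the middle vector of a frame to an eigenvector. -/
theorem exists_eig_frame (B : Frame H) {g : H.SIsom} (hg : g ∈ stE B) (hne : ea B g ≠ ed B g) :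
    ∃ D : Frame H, pt D = pt B ∧ ea D g = ea B g ∧ ed D g = ed B g ∧
      g.1.1 D.w = ed B g • D.w := by
  have hd := hb.dim
  obtain ⟨he, -, hw, -⟩ := coords hd B hg
  obtain ⟨θ, hθ⟩ := H.conj.exists_trace_one
  obtain ⟨β, hβe⟩ : ∃ β, β * (ed B g - ea B g) = eb B g :=
    ⟨_, div_mul_cancel₀ _ (sub_ne_zero.2 (Ne.symm hne))⟩
  have hγ : -(θ * (β * H.σ β)) + H.σ (-(θ * (β * H.σ β))) + β * H.σ β = 0 := by
    rw [map_neg, map_mul, H.conj.norm_mem]
    linear_combination (-(β * H.σ β)) * hθ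
  let D : Frame H :=
    ⟨B.e, B.w + β • B.e, B.f + (-H.σ β) • B.w + (-(θ * (β * H.σ β))) • B.e, B.ee, by
      simp [H.add_left, H.add_right, H.neg_left, H.neg_right, H.smul_left, H.smul_right, B.ee, B.ff, B.ef, B.fe, B.ww, B.we,
        B.ew, B.wf, B.fw, H.conj.invol]
      simp [H.conj.invol] at hγ
      linear_combination hγ, by
      simp [H.add_right, H.neg_right, H.smul_right, B.ee, B.ef, B.ew], by
      simp [H.add_left, H.add_right, H.smul_left, H.smul_right, B.ee, B.ww, B.we, B.ew], by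
      simp [H.add_left, H.smul_left, B.ee, B.we], by
      simp [H.add_left, H.add_right, H.neg_right, H.smul_left, H.smul_right, B.ee, B.ww, B.we, B.ew, B.wf, B.ef,
        H.conj.invol]⟩
  have hp : pt D = pt B := rfl
  have hgw : g.1.1 D.w = ed B g • D.w := by
    show g.1.1 (B.w + β • B.e) = ed B g • (B.w + β • B.e)
    rw [map_add, map_smul, he, hw]
    linear_combination (norm := module) -(hβe • B.e)
  refine ⟨D, hp, ea_congr hp ((stE_congr hp).symm ▸ hg), ?_, hgw⟩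
  rw [ed, hgw, H.smul_left, D.ww, mul_one]

/-- A torus element which is scalar on a chord. -/
theorem exists_good (B : Frame H) : ∃ (D : Frame H) (h : H.SIsom) (η δ : F),
    h ∈ Lg K D ∧ η ≠ δ ∧ h.1.1 D.w = δ • D.w ∧ (∀ x, H.h x D.w = 0 → h.1.1 x = η • x) ∧
      (∀ C : Frame H, C.w = D.w → h ∈ Lg K C ∧ ea C h = η ∧ ed C h = δ) := by
  have hd := hb.dim
  obtain ⟨g, hη, hη3⟩ := exists_eta hb hA B
  obtain ⟨r1, -, r3, -⟩ := relations hd B g.2.2
  have hσa : H.σ (ea B g.1) * ea B g.1 = 1 := by rw [hb.pow, ← pow_succ]; exact hη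
  have hne : ea B g.1 ≠ ed B g.1 := by
    intro h
    refine hη3 ?_
    have h2 := ed_mul_ea hd B g.2.2
    rw [← h] at h2
    linear_combination (ea B g.1) * h2 + hσa
  obtain ⟨D, hp, hae, hde, hw⟩ := exists_eig_frame hb B g.2.2 hne
  have hgD : g.1 ∈ stE D := stE_congr hp ▸ g.2.2
  obtain ⟨s1, -⟩ := relations hd D hgD
  have han : ea D g.1 = en D g.1 := by
    rw [hae] at s1 ⊢
    exact H.conj.inj (mul_left_cancel₀ (coords hd B g.2.2).2.1 (by rw [mul_comm, hσa, s1]))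
  obtain ⟨hroot, heq⟩ := pow_root hd D hb.pow hgD hw han
  have h1 : g.1 ^ (H.q + 1) = 1 := by
    have hmem : g.1 ^ (H.q + 1) ∈ Ag K D := ⟨pow_mem g.2.1 _, hroot⟩
    rw [Subgroup.eq_bot_of_card_eq _ (hA D), Subgroup.mem_bot] at hmem
    exact hmem
  have hsc : ∀ x, H.h x D.w = 0 → g.1.1.1 x = ea D g.1 • x := fun x hx => by
    rw [heq x hx, h1]; rfl
  refine ⟨D, g.1, ea D g.1, ed B g.1, ⟨g.2.1, hgD⟩, by rw [hae]; exact hne, hw, hsc, fun C hC => ?_⟩
  have hCe : g.1.1.1 C.e = ea D g.1 • C.e := hsc C.e (hC ▸ C.ew)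
  refine ⟨⟨g.2.1, mem_stE.2 ⟨_, hCe⟩⟩, ?_, ?_⟩
  · rw [ea, hCe, H.smul_left, C.ef, mul_one]
  · rw [ed, hC, hw, H.smul_left, D.ww, mul_one]

/-- Correcting an element to one commuting with the torus element. -/
theorem exists_commuting (C : Frame H) {h k : H.SIsom} (hh : h ∈ Lg K C) (hne : ea C h ≠ ed C h)
    (hk : k ∈ K) (hkC : k ∈ stE C) (hkea : ea C k = ea C h) :
    ∃ m ∈ Ng K C, m * h * m⁻¹ = k := by
  have hd := hb.dim
  let ψ : Ng K C → Ng K C := fun m => ⟨m.1 * h * m.1⁻¹ * h⁻¹, by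
    rw [show m.1 * h * m.1⁻¹ * h⁻¹ = m.1 * (h * m.1⁻¹ * h⁻¹) by group]
    exact mul_mem m.2 ⟨K.mul_mem (K.mul_mem hh.1 (K.inv_mem m.2.1)) (K.inv_mem hh.1),
      conj_mem_fixE hd C hh.2 (inv_mem m.2.2)⟩⟩
  have hinj : Function.Injective ψ := by
    intro m m' e
    have e' : m.1 * h * m.1⁻¹ * h⁻¹ = m'.1 * h * m'.1⁻¹ * h⁻¹ := congrArg Subtype.val e
    have hz : h * (m'.1⁻¹ * m.1) * h⁻¹ = m'.1⁻¹ * m.1 := by
      have e2 : m.1 * h * m.1⁻¹ = m'.1 * h * m'.1⁻¹ := mul_right_cancel e'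
      calc h * (m'.1⁻¹ * m.1) * h⁻¹ = m'.1⁻¹ * (m'.1 * h * m'.1⁻¹) * m.1 * h⁻¹ := by group
        _ = m'.1⁻¹ * (m.1 * h * m.1⁻¹) * m.1 * h⁻¹ := by rw [e2]
        _ = m'.1⁻¹ * m.1 := by group
    have hzN : m'.1⁻¹ * m.1 ∈ Ng K C := mul_mem (inv_mem m'.2) m.2
    have hb1 := conj_eb hd C hh.2 hzN.2
    rw [hz] at hb1
    have h0 : eb C (m'.1⁻¹ * m.1) = 0 := by
      have h1 : (ed C h - ea C h) * eb C (m'.1⁻¹ * m.1) = 0 := by linear_combination hb1
      exact (mul_eq_zero.1 h1).resolve_left (sub_ne_zero.2 (Ne.symm hne))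
    exact (Subtype.ext (inv_mul_eq_one.1 (eb_inj hb hA C hzN h0))).symm
  have hkh : k * h⁻¹ ∈ Ng K C := by
    refine ⟨K.mul_mem hk (K.inv_mem hh.1), ?_⟩
    have hmem : k * h⁻¹ ∈ stE C := mul_mem hkC (inv_mem hh.2)
    obtain ⟨he, -⟩ := coords hd C hmem
    have h1 : ea C (k * h⁻¹) = 1 := by
      have h2 := ea_mul hd C hmem hh.2
      rw [inv_mul_cancel_right, hkea] at h2
      exact mul_right_cancel₀ (coords hd C hh.2).2.1 (by rw [one_mul]; exact h2.symm)
    show (k * h⁻¹).1.1 C.e = C.e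
    rw [he, h1, one_smul]
  obtain ⟨m, hm⟩ := (Finite.injective_iff_surjective.1 hinj) ⟨_, hkh⟩
  exact ⟨m.1, m.2, mul_right_cancel (congrArg Subtype.val hm)⟩

omit hb hA in
/-- Elements commuting with the torus element preserve the chord. -/
theorem commute_mid (hd : Module.finrank F V = 3) (D : Frame H) {h k : H.SIsom} {η δ : F} (hne : η ≠ δ)
    (hw : h.1.1 D.w = δ • D.w) (hsc : ∀ x, H.h x D.w = 0 → h.1.1 x = η • x) (hk : k * h = h * k) :
    k ∈ midStab D := by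
  refine ⟨H.h (k.1.1 D.w) D.w, ?_⟩
  set u := k.1.1 D.w
  set z := u - H.h u D.w • D.w with hz
  have hzw : H.h z D.w = 0 := by rw [hz, H.sub_left, H.smul_left, D.ww, mul_one, sub_self]
  have hu : h.1.1 u = δ • u := by
    show h.1.1 (k.1.1 D.w) = δ • k.1.1 D.w
    rw [← H.smul_mul_apply, ← hk, H.smul_mul_apply, hw, map_smul]
  have h1 : h.1.1 z = η • z := hsc z hzw
  have h2 : h.1.1 z = δ • z := by rw [hz, map_sub, map_smul, hu, hw]; module
  have h3 : (η - δ) • z = 0 := by rw [sub_smul, ← h1, ← h2, sub_self]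
  exact sub_eq_zero.1 ((smul_eq_zero.1 h3).resolve_left (sub_ne_zero.2 hne))

/-- A chord with a transitive stabiliser and full torus. -/
theorem torus_chord (B : Frame H) : ∃ D : Frame H,
    (∀ x y : V, x ≠ 0 → y ≠ 0 → H.h x D.w = 0 → H.h y D.w = 0 → H.h x x = 0 → H.h y y = 0 →
      ∃ m ∈ Mg K D, ∃ t : F, m.1.1 x = t • y) ∧
    (normHom hb.dim K D).range = (rng K hb.dim D).map (normUnits H.σ) := by
  have hd := hb.dim
  obtain ⟨D, h, η, δ, hh, hne, hw, hsc, hall⟩ := exists_good hb hA B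
  refine ⟨D, fun x y hx0 hy0 hx hy hxx hyy => ?_, le_antisymm ?_ ?_⟩
  · obtain ⟨C, hCe, hC⟩ := frame_at hd D hx hx0 hxx
    obtain ⟨C', hCe', hC'⟩ := frame_at hd D hy hy0 hyy
    obtain ⟨g, hgK, hg⟩ := hb.exists_map C C'
    rw [pt, pt, HermSpace.smul_isoMk, HermSpace.isoMk_eq_iff] at hg
    obtain ⟨t, ht⟩ := hg
    have ht0 : t ≠ 0 := fun e => by
      rw [e, zero_smul] at ht
      exact H.isom_ne_zero g.1 C.e_ne ht.symm
    have hginv : (g⁻¹).1.1 C'.e = t⁻¹ • C.e := by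
      have e : (g⁻¹).1.1 (t • C'.e) = C.e := by rw [ht]; exact H.inv_apply_self g.1 C.e
      rw [map_smul] at e
      rw [← e, inv_smul_smul₀ ht0]
    obtain ⟨hL', ha', hd'⟩ := hall C' hC'
    have hCh : h.1.1 C.e = η • C.e := hsc C.e (hC ▸ C.ew)
    have hkapp : (g * h * g⁻¹).1.1 C'.e = η • C'.e := by
      rw [H.smul_mul_apply, hginv, map_smul, H.smul_mul_apply, hCh, map_smul, ← ht, smul_smul, smul_smul]
      congr 1
      field_simp
    obtain ⟨m, hm, hmk⟩ := exists_commuting hb hA C' hL' (by rw [ha', hd']; exact hne)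
      (K.mul_mem (K.mul_mem hgK hh.1) (K.inv_mem hgK)) (mem_stE.2 ⟨η, hkapp⟩)
      (by rw [ha', ea, hkapp, H.smul_left, C'.ef, mul_one])
    have hcomm : m⁻¹ * g * h = h * (m⁻¹ * g) := by
      calc m⁻¹ * g * h = m⁻¹ * (g * h * g⁻¹) * g := by group
        _ = m⁻¹ * (m * h * m⁻¹) * g := by rw [hmk]
        _ = h * (m⁻¹ * g) := by group
    refine ⟨m⁻¹ * g, ⟨K.mul_mem (K.inv_mem hm.1) hgK, commute_mid hd D hne hw hsc hcomm⟩, t, ?_⟩
    have hmi : (m⁻¹).1.1 C'.e = C'.e := (fixE C').inv_mem hm.2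
    rw [← hCe, ← hCe', H.smul_mul_apply, ← ht, map_smul, hmi]
  · rintro _ ⟨g, rfl⟩
    exact ⟨_, ⟨⟨g.1.1, g.1.2.1, g.2⟩, rfl⟩, Units.ext rfl⟩
  · rintro _ ⟨_, ⟨g, rfl⟩, rfl⟩
    obtain ⟨hL, ha, hdd⟩ := hall D rfl
    have hmem : g.1 * h * g.1⁻¹ ∈ stE D := mul_mem (mul_mem g.2.2 hh.2) (inv_mem g.2.2)
    have hea : ea D (g.1 * h * g.1⁻¹) = ea D h := by
      have h2 := ea_mul hd D hmem g.2.2
      rw [inv_mul_cancel_right, ea_mul hd D g.2.2 hh.2, mul_comm] at h2
      exact (mul_right_cancel₀ (coords hd D g.2.2).2.1 h2).symm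
    obtain ⟨m, hm, hmk⟩ := exists_commuting hb hA D hh (by rw [ha, hdd]; exact hne)
      (K.mul_mem (K.mul_mem g.2.1 hh.1) (K.inv_mem g.2.1)) hmem hea
    have hcomm : m⁻¹ * g.1 * h = h * (m⁻¹ * g.1) := by
      calc m⁻¹ * g.1 * h = m⁻¹ * (g.1 * h * g.1⁻¹) * g.1 := by group
        _ = m⁻¹ * (m * h * m⁻¹) * g.1 := by rw [hmk]
        _ = h * (m⁻¹ * g.1) := by group
    have hmi : m⁻¹ ∈ stE D := fixE_le_stE D ((fixE D).inv_mem hm.2)
    let k : St K D := ⟨⟨m⁻¹ * g.1, mem_Mg.2 ⟨K.mul_mem (K.inv_mem hm.1) g.2.1,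
      commute_mid hd D hne hw hsc hcomm⟩⟩, mul_mem hmi g.2.2⟩
    refine ⟨k, Units.ext ?_⟩
    have h1 : ea D m⁻¹ = 1 := by rw [ea, show (m⁻¹).1.1 D.e = D.e from (fixE D).inv_mem hm.2, D.ef]
    rw [normHom_apply K D hd, coe_normUnits, eaHom_apply]
    show ea D (m⁻¹ * g.1) * _ = _
    rw [ea_mul hd D hmi g.2.2, h1, one_mul]

theorem card_torus (D : Frame H) :
    Nat.card ((rng K hb.dim D).map (normUnits H.σ)) =
      Nat.card (rng K hb.dim D) / Nat.gcd (Nat.card (rng K hb.dim D)) (H.q + 1) := by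
  have hcomp : (normUnits H.σ).comp (rng K hb.dim D).subtype =
      (rng K hb.dim D).subtype.comp (powMonoidHom (H.q + 1)) := by
    refine MonoidHom.ext fun x => Units.ext ?_
    show ((x.1 : Fˣ) : F) * H.σ x.1 = ((x.1 ^ (H.q + 1) : Fˣ) : F)
    rw [Units.val_pow_eq_pow_val, hb.pow, pow_succ']
  rw [show (rng K hb.dim D).map (normUnits H.σ) =
      ((normUnits H.σ).comp (rng K hb.dim D).subtype).range by
      rw [MonoidHom.range_comp, Subgroup.range_subtype],
    hcomp, MonoidHom.range_comp,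
    Subgroup.card_map_of_injective (Subgroup.subtype_injective _), IsCyclic.card_powMonoidHom_range]

end Cfsg.Lib.Known.PSUThree
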