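import Cfsg.Agent.Components.Module.UnitaryThree

/-!
The stabiliser of an isotropic point in a three-dimensional special unitary group, in coordinates of
a frame.
-/

set_option autoImplicit false
set_option linter.unusedSectionVars false
set_option linter.style.haveILetI false
set_option maxHeartbeats 1000000

open scoped LinearAlgebra.Projectivization

namespace Cfsg.Lib.Known.PSUThree

open Cfsg.Lib.Classical Cfsg.Lib.Components.UnitaryThree

universe u v

variable {F : Type u} [Field F] {V : Type v} [AddCommGroup V] [Module F V] {H : HermSpace F V}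

/-- The standing hypotheses. -/
structure Setup (H : HermSpace F V) : Prop where
  dim : Module.finrank F V = 3
  pow : ∀ x, H.σ x = x ^ H.q
  pts : Nat.card H.IsoPt = H.q ^ 3 + 1
  three : 3 ≤ H.q

/-- The coefficient of the first vector in the image of itself. -/
def ea (B : Frame H) (g : H.SIsom) : F := H.h (g.1.1 B.e) B.f
/-- The coefficient of the middle vector in the image of itself. -/
def ed (B : Frame H) (g : H.SIsom) : F := H.h (g.1.1 B.w) B.w
/-- The coefficient of the first vector in the image of the middle one. -/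
def eb (B : Frame H) (g : H.SIsom) : F := H.h (g.1.1 B.w) B.f
/-- The coefficient of the first vector in the image of the last one. -/
def ec (B : Frame H) (g : H.SIsom) : F := H.h (g.1.1 B.f) B.f
/-- The coefficient of the middle vector in the image of the last one. -/
def em (B : Frame H) (g : H.SIsom) : F := H.h (g.1.1 B.f) B.w
/-- The coefficient of the last vector in the image of itself. -/
def en (B : Frame H) (g : H.SIsom) : F := H.h (g.1.1 B.f) B.e

/-- The point of the first vector. -/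
noncomputable def pt (B : Frame H) : H.IsoPt := H.isoMk B.e B.e_ne B.ee

/-- The stabiliser of the point. -/
noncomputable def stE (B : Frame H) : Subgroup H.SIsom := MulAction.stabilizer H.SIsom (pt B)

theorem mem_stE {B : Frame H} {g : H.SIsom} : g ∈ stE B ↔ ∃ a : F, g.1.1 B.e = a • B.e := by
  rw [stE, MulAction.mem_stabilizer_iff, pt, HermSpace.smul_isoMk, HermSpace.isoMk_eq_iff]
  exact ⟨fun ⟨a, h⟩ => ⟨a, h.symm⟩, fun ⟨a, h⟩ => ⟨a, h.symm⟩⟩

/-- The pointwise stabiliser of the first vector. -/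
def fixE (B : Frame H) : Subgroup H.SIsom where
  carrier := {g | g.1.1 B.e = B.e}
  mul_mem' := by
    intro g k hg hk
    show (g * k).1.1 B.e = B.e
    rw [H.smul_mul_apply, show k.1.1 B.e = B.e from hk, show g.1.1 B.e = B.e from hg]
  one_mem' := rfl
  inv_mem' := by
    intro g hg
    show (g⁻¹).1.1 B.e = B.e
    conv_lhs => rw [← show g.1.1 B.e = B.e from hg]
    exact H.inv_apply_self g.1 _

theorem fixE_le_stE (B : Frame H) : fixE B ≤ stE B := fun g hg =>
  mem_stE.2 ⟨1, by rw [one_smul]; exact hg⟩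

theorem pt_eq_iff {B B' : Frame H} : pt B = pt B' ↔ ∃ c : F, c ≠ 0 ∧ B.e = c • B'.e := by
  rw [pt, pt, HermSpace.isoMk_eq_iff]
  refine ⟨fun ⟨c, h⟩ => ⟨c, fun h0 => B.e_ne ?_, h.symm⟩, fun ⟨c, _, h⟩ => ⟨c, h.symm⟩⟩
  rw [← h, h0, zero_smul]

theorem stE_congr {B B' : Frame H} (h : pt B = pt B') : stE B = stE B' := by rw [stE, stE, h]

theorem fixE_congr {B B' : Frame H} (h : pt B = pt B') : fixE B = fixE B' := by
  obtain ⟨c, hc, e⟩ := pt_eq_iff.1 h
  ext g
  show g.1.1 B.e = B.e ↔ g.1.1 B'.e = B'.e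
  rw [e, map_smul]
  exact (smul_right_injective V hc).eq_iff

theorem root_congr {B B' : Frame H} (h : pt B = pt B') : H.rootGroup B.ee = H.rootGroup B'.ee := by
  obtain ⟨c, hc, e⟩ := pt_eq_iff.1 h
  exact H.rootGroup_eq_of_smul B'.ee B.ee hc e

theorem ea_congr {B B' : Frame H} (h : pt B = pt B') {g : H.SIsom} (hg : g ∈ stE B) :
    ea B g = ea B' g := by
  obtain ⟨c, hc, e⟩ := pt_eq_iff.1 h
  obtain ⟨a, ha⟩ := mem_stE.1 hg
  have ha' : g.1.1 B'.e = a • B'.e := by
    rw [e, map_smul, smul_comm] at ha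
    exact smul_right_injective V hc ha
  rw [ea, ea, ha, ha', H.smul_left, H.smul_left, B.ef, B'.ef]

section
variable [Finite F] [FiniteDimensional F V]

instance finite_sisom : Finite H.SIsom := by
  haveI : Finite V := Module.finite_of_finite F
  exact Finite.of_injective (fun g : H.SIsom => (g.1.1 : V → V)) fun g k e =>
    H.sisom_ext fun x => congrFun e x

instance finite_isoPt : Finite H.IsoPt := by
  haveI : Finite V := Module.finite_of_finite F
  exact Subtype.finite

variable (hd : Module.finrank F V = 3)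
include hd

theorem exists_frame_pt (p : H.IsoPt) : ∃ B : Frame H, pt B = p := by
  obtain ⟨B, hB⟩ := exists_frame hd p.1.rep_nonzero p.2
  refine ⟨B, Subtype.ext ?_⟩
  show Projectivization.mk F B.e _ = p.1
  simp only [hB, Projectivization.mk_rep]

variable (B : Frame H)

theorem ext_lin {g k : H.SIsom} (h1 : g.1.1 B.e = k.1.1 B.e) (h2 : g.1.1 B.w = k.1.1 B.w)
    (h3 : g.1.1 B.f = k.1.1 B.f) : g = k := H.sisom_ext fun x => by
  rw [decomp hd B x]
  simp only [map_add, map_smul, h1, h2, h3]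

theorem coords {g : H.SIsom} (hg : g ∈ stE B) :
    g.1.1 B.e = ea B g • B.e ∧ ea B g ≠ 0 ∧ g.1.1 B.w = eb B g • B.e + ed B g • B.w ∧
      g.1.1 B.f = ec B g • B.e + em B g • B.w + en B g • B.f := by
  obtain ⟨a, ha⟩ := mem_stE.1 hg
  have ea' : ea B g = a := by rw [ea, ha, H.smul_left, B.ef, mul_one]
  have ha0 : a ≠ 0 := fun h => by
    rw [h, zero_smul] at ha
    exact H.isom_ne_zero g.1 B.e_ne ha
  refine ⟨by rw [ea', ha], ea' ▸ ha0, ?_, decomp hd B _⟩
  have h0 : H.h (g.1.1 B.w) B.e = 0 := by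
    have h := H.map_form g.1 B.w B.e
    rw [B.we, ha, H.smul_right] at h
    exact (mul_eq_zero.1 h).resolve_left ((map_ne_zero _).2 ha0)
  conv_lhs => rw [decomp hd B (g.1.1 B.w)]
  rw [h0, zero_smul, add_zero]
  rfl

theorem relations {g : H.SIsom} (hg : g ∈ stE B) :
    ea B g * H.σ (en B g) = 1 ∧ ed B g * H.σ (ed B g) = 1 ∧ ea B g * ed B g * en B g = 1 ∧
      em B g * H.σ (ed B g) + en B g * H.σ (eb B g) = 0 ∧
      ec B g * H.σ (en B g) + en B g * H.σ (ec B g) + em B g * H.σ (em B g) = 0 := by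
  obtain ⟨he, -, hw, hf⟩ := coords hd B hg
  have hh := H.map_form g.1
  refine ⟨?_, ?_, ?_, ?_, ?_⟩
  · have h := hh B.e B.f
    rw [B.ef, he, hf] at h
    simpa [H.smul_left, H.smul_right, H.add_right, B.ee, B.ew, B.ef] using h
  · have h := hh B.w B.w
    rw [B.ww, hw] at h
    simpa [H.smul_left, H.smul_right, H.add_left, H.add_right, B.ee, B.ew, B.we, B.ww] using h
  · have h := det_frame hd B g.1.1.toLinearMap
    rw [det_one g] at h
    simp only [LinearEquiv.coe_coe] at h
    rw [he, hw] at h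
    simp [Matrix.det_fin_three, H.smul_left, H.add_left, B.ee, B.ew, B.ef, B.we, B.ww, B.wf] at h
    rw [en]
    linear_combination -h
  · have h := hh B.f B.w
    rw [B.fw, hf, hw] at h
    simp [H.smul_left, H.smul_right, H.add_left, H.add_right, B.ee, B.ew, B.we, B.ww, B.fe, B.fw] at h
    linear_combination h
  · have h := hh B.f B.f
    rw [B.ff, hf] at h
    simp [H.smul_left, H.smul_right, H.add_left, H.add_right, B.ee, B.ew, B.we, B.ww, B.fe, B.fw, B.ef,
      B.wf, B.ff] at h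
    linear_combination h

theorem ed_mul_ea {g : H.SIsom} (hg : g ∈ stE B) : ed B g * ea B g = H.σ (ea B g) := by
  obtain ⟨r1, -, r3, -⟩ := relations hd B hg
  have h := congrArg H.σ r1
  rw [map_mul, H.conj.invol, map_one] at h
  linear_combination (H.σ (ea B g)) * r3 - (ea B g * ed B g) * h

theorem unipotent {g : H.SIsom} (hg : g ∈ fixE B) :
    g.1.1 B.w = eb B g • B.e + B.w ∧ g.1.1 B.f = ec B g • B.e + (-H.σ (eb B g)) • B.w + B.f ∧
      ec B g + H.σ (ec B g) + eb B g * H.σ (eb B g) = 0 := by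
  have hg' := fixE_le_stE B hg
  obtain ⟨he, -, hw, hf⟩ := coords hd B hg'
  obtain ⟨r1, r2, r3, r4, r5⟩ := relations hd B hg'
  have hge : g.1.1 B.e = B.e := hg
  have ha : ea B g = 1 := by rw [ea, hge, B.ef]
  have hn : en B g = 1 := by
    have h := H.map_form g.1 B.f B.e
    rw [hge, B.fe] at h
    exact h
  rw [ha, hn, one_mul, mul_one] at r3
  rw [hn, r3, map_one, mul_one, one_mul] at r4
  have hm : em B g = -H.σ (eb B g) := by linear_combination r4
  rw [hn, hm, map_one, mul_one, one_mul, map_neg, H.conj.invol] at r5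
  rw [r3, one_smul] at hw
  rw [hn, one_smul, hm] at hf
  exact ⟨hw, hf, by linear_combination r5⟩

theorem eb_mul {g k : H.SIsom} (hg : g ∈ fixE B) (hk : k ∈ fixE B) :
    eb B (g * k) = eb B g + eb B k ∧
      ec B (g * k) = ec B g + ec B k - H.σ (eb B k) * eb B g := by
  obtain ⟨g1, g2, -⟩ := unipotent hd B hg
  obtain ⟨k1, k2, -⟩ := unipotent hd B hk
  have hge : g.1.1 B.e = B.e := hg
  refine ⟨?_, ?_⟩
  · rw [eb, H.smul_mul_apply, k1, map_add, map_smul, hge, H.add_left, H.smul_left, B.ef, mul_one, ← eb]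
    ring
  · rw [ec, H.smul_mul_apply, k2, map_add, map_add, map_smul, map_smul, hge, g1, g2]
    simp [H.add_left, H.smul_left, H.neg_left, B.ef, B.wf, B.ff]
    ring

omit [Finite F] [FiniteDimensional F V] hd in
theorem eb_one : eb B (1 : H.SIsom) = 0 ∧ ec B (1 : H.SIsom) = 0 := ⟨B.wf, B.ff⟩

theorem ext_fixE {g k : H.SIsom} (hg : g ∈ fixE B) (hk : k ∈ fixE B) (hb : eb B g = eb B k)
    (hc : ec B g = ec B k) : g = k := by
  obtain ⟨g1, g2, -⟩ := unipotent hd B hg
  obtain ⟨k1, k2, -⟩ := unipotent hd B hk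
  exact ext_lin hd B ((show g.1.1 B.e = B.e from hg).trans (show k.1.1 B.e = B.e from hk).symm)
    (by rw [g1, k1, hb]) (by rw [g2, k2, hb, hc])

theorem mem_root_of_eb {g : H.SIsom} (hg : g ∈ fixE B) (hb : eb B g = 0) :
    g ∈ H.rootGroup B.ee := by
  obtain ⟨g1, g2, g3⟩ := unipotent hd B hg
  rw [hb, map_zero, neg_zero, zero_smul, add_zero] at g2
  rw [hb, zero_smul, zero_add] at g1
  rw [hb, zero_mul, add_zero] at g3
  refine ⟨_, g3, congrArg Subtype.val (H.sisom_ext (g := g) (h := H.sT B.ee g3) fun x => ?_)⟩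
  rw [H.sT_apply]
  conv_lhs => rw [decomp hd B x]
  conv_rhs => arg 1; rw [decomp hd B x]
  rw [map_add, map_add, map_smul, map_smul, map_smul, show g.1.1 B.e = B.e from hg, g1, g2]
  module

omit [Finite F] [FiniteDimensional F V] hd in
theorem root_eq_sT {g : H.SIsom} (hg : g ∈ H.rootGroup B.ee) :
    ∃ hc : ec B g + H.σ (ec B g) = 0, g = H.sT B.ee hc := by
  obtain ⟨c, hc, e⟩ := hg
  have hg : g = H.sT B.ee hc := Subtype.ext e
  have hec : ec B g = c := by
    rw [ec, hg, H.sT_apply, H.add_left, H.smul_left, B.ff, B.fe, B.ef]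
    ring
  exact ⟨by rw [hec]; exact hc, hg.trans (H.sT_congr B.ee B.ee hc _ rfl hec.symm)⟩

omit [Finite F] [FiniteDimensional F V] hd in
theorem root_le_fixE : H.rootGroup B.ee ≤ fixE B ∧ ∀ g ∈ H.rootGroup B.ee, eb B g = 0 := by
  refine ⟨fun g hg => ?_, fun g hg => ?_⟩ <;> obtain ⟨hc, e⟩ := root_eq_sT B hg <;> rw [e]
  · show (H.sT B.ee hc).1.1 B.e = B.e
    rw [H.sT_apply, B.ee, mul_zero, zero_smul, add_zero]
  · rw [eb, H.sT_apply, B.we, mul_zero, zero_smul, add_zero, B.wf]

theorem ea_mul {g k : H.SIsom} (hg : g ∈ stE B) (hk : k ∈ stE B) :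
    ea B (g * k) = ea B g * ea B k := by
  obtain ⟨he, -⟩ := coords hd B hg
  obtain ⟨he', -⟩ := coords hd B hk
  rw [ea, H.smul_mul_apply, he', map_smul, he, H.smul_left, H.smul_left, B.ef]
  ring

theorem conj_mem_fixE {g k : H.SIsom} (hg : g ∈ stE B) (hk : k ∈ fixE B) : g * k * g⁻¹ ∈ fixE B := by
  obtain ⟨he, ha0, -⟩ := coords hd B hg
  show (g * k * g⁻¹).1.1 B.e = B.e
  have h1 : g.1.1 ((ea B g)⁻¹ • B.e) = B.e := by rw [map_smul, he, inv_smul_smul₀ ha0]
  conv_lhs => rw [← h1]
  rw [H.smul_mul_apply, show (g⁻¹).1.1 (g.1.1 _) = _ from H.inv_apply_self g.1 _, H.smul_mul_apply,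
    map_smul, show k.1.1 B.e = B.e from hk, h1]

theorem conj_eb {g k : H.SIsom} (hg : g ∈ stE B) (hk : k ∈ fixE B) :
    ed B g * eb B (g * k * g⁻¹) = ea B g * eb B k := by
  obtain ⟨gee, -, gw, -⟩ := coords hd B hg
  obtain ⟨kw, -⟩ := unipotent hd B hk
  have hk' := conj_mem_fixE hd B hg hk
  obtain ⟨k'w, -⟩ := unipotent hd B hk'
  have e : (g * k).1.1 B.w = ((g * k * g⁻¹) * g).1.1 B.w := by rw [inv_mul_cancel_right]
  rw [H.smul_mul_apply, H.smul_mul_apply (g * k * g⁻¹) g, kw, gw, map_add, map_smul, gee,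
    gw, map_add, map_smul, map_smul, show (g * k * g⁻¹).1.1 B.e = B.e from hk', k'w] at e
  have := congrArg (fun x => H.h x B.f) e
  simp [H.add_left, H.smul_left, B.ef, B.wf] at this
  linear_combination -this

theorem conj_ec {g k : H.SIsom} (hg : g ∈ stE B) (hk : k ∈ H.rootGroup B.ee) :
    g * k * g⁻¹ ∈ H.rootGroup B.ee ∧ ec B (g * k * g⁻¹) = ea B g * H.σ (ea B g) * ec B k := by
  obtain ⟨he, -⟩ := coords hd B hg
  obtain ⟨hc, e⟩ := root_eq_sT B hk
  have hav : H.h (ea B g • B.e) (ea B g • B.e) = 0 := by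
    rw [H.smul_left, H.smul_right, B.ee, mul_zero, mul_zero]
  have h : g * k * g⁻¹ = H.sT B.ee (H.skew_norm_mul (ea B g) hc) := by
    conv_lhs => rw [e]
    rw [H.sT_conj, H.sT_congr _ hav hc hc he rfl, H.sT_smul B.ee _ hav hc (H.skew_norm_mul (ea B g) hc)]
  refine ⟨⟨_, H.skew_norm_mul (ea B g) hc, congrArg Subtype.val h⟩, ?_⟩
  rw [h, ec, H.sT_apply, H.add_left, H.smul_left, B.ff, B.fe, B.ef]
  ring

/-- A non-trivial unipotent element fixes no other isotropic point. -/
theorem fix_only {k : H.SIsom} (hk : k ∈ fixE B) (hk1 : k ≠ 1) {x : V} (hx0 : x ≠ 0) (hx : H.h x x = 0)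
    {t : F} (ht : k.1.1 x = t • x) : ∃ a : F, x = a • B.e := by
  obtain ⟨k1, k2, -⟩ := unipotent hd B hk
  have hke : k.1.1 B.e = B.e := hk
  set α := H.h x B.f with hα
  set β := H.h x B.w with hβ
  set γ := H.h x B.e with hγ
  have hdx := decomp hd B x
  rw [← hα, ← hβ, ← hγ] at hdx
  have hkx : k.1.1 x = (α + β * eb B k + γ * ec B k) • B.e + (β + γ * -H.σ (eb B k)) • B.w + γ • B.f := by
    conv_lhs => rw [hdx]
    rw [map_add, map_add, map_smul, map_smul, map_smul, hke, k1, k2]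
    module
  rw [hkx] at ht
  have he := congrArg (fun z => H.h z B.e) ht
  have hw := congrArg (fun z => H.h z B.w) ht
  have hf := congrArg (fun z => H.h z B.f) ht
  simp [H.add_left, H.smul_left, B.ee, B.we, B.fe, B.ew, B.ww, B.fw, B.ef, B.wf, B.ff, ← hα, ← hβ, ← hγ]
    at he hw hf
  have hγ0 : γ = 0 := by
    by_contra h0
    have ht1 : t = 1 := by
      have h' : (t - 1) * γ = 0 := by linear_combination -he
      exact sub_eq_zero.1 ((mul_eq_zero.1 h').resolve_right h0)
    rw [ht1, one_mul] at hw hf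
    have hb : eb B k = 0 := by
      have h' : γ * H.σ (eb B k) = 0 := by linear_combination -hw
      exact H.conj.eq_zero.1 ((mul_eq_zero.1 h').resolve_left h0)
    rw [hb, mul_zero, add_zero] at hf
    have hc : ec B k = 0 := by
      have h' : γ * ec B k = 0 := by linear_combination hf
      exact (mul_eq_zero.1 h').resolve_left h0
    exact hk1 (ext_fixE hd B hk (one_mem _) (hb.trans (eb_one B).1.symm) (hc.trans (eb_one B).2.symm))
  rw [hγ0, zero_smul, add_zero] at hdx
  have hβ0 : β = 0 := by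
    have h' := hx
    rw [hdx] at h'
    simpa [H.add_left, H.add_right, H.smul_left, H.smul_right, B.ee, B.ew, B.we, B.ww] using h'
  exact ⟨α, by rw [hdx, hβ0, zero_smul, add_zero]⟩

theorem fix_pt {k : H.SIsom} (hk : k ∈ fixE B) (hk1 : k ≠ 1) {p : H.IsoPt} (hp : k • p = p) :
    p = pt B := by
  induction p using H.isoPt_ind with | h x hx hxx => ?_
  rw [HermSpace.smul_isoMk, HermSpace.isoMk_eq_iff] at hp
  obtain ⟨t, ht⟩ := hp
  obtain ⟨a, ha⟩ := fix_only hd B hk hk1 hx hxx ht.symm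
  exact (HermSpace.isoMk_eq_iff H).2 ⟨a, ha.symm⟩

theorem root_pow {g : H.SIsom} (hg : g ∈ H.rootGroup B.ee) :
    ∀ n : ℕ, ec B (g ^ n) = n * ec B g := by
  intro n
  induction n with
  | zero => simp [ec, B.ff]
  | succ n ih =>
    rw [pow_succ, (eb_mul hd B ((root_le_fixE B).1 (pow_mem hg n)) ((root_le_fixE B).1 hg)).2, ih,
      (root_le_fixE B).2 g hg]
    push_cast
    simp
    ring

theorem eb_pow {g : H.SIsom} (hg : g ∈ fixE B) : ∀ n : ℕ, eb B (g ^ n) = n * eb B g := by
  intro n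
  induction n with
  | zero => simp [eb, B.wf]
  | succ n ih =>
    rw [pow_succ, (eb_mul hd B (pow_mem hg n) hg).1, ih]
    push_cast
    ring

variable (p : ℕ) [Fact p.Prime] [CharP F p]

theorem root_pow_char {g : H.SIsom} (hg : g ∈ H.rootGroup B.ee) : g ^ p = 1 :=
  ext_fixE hd B (pow_mem ((root_le_fixE B).1 hg) _) (one_mem _)
    (((root_le_fixE B).2 _ (pow_mem hg p)).trans (eb_one B).1.symm)
    (by rw [root_pow hd B hg, CharP.cast_eq_zero, zero_mul, (eb_one B).2])

theorem fixE_pgroup : IsPGroup p (fixE B) := by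
  rintro ⟨g, hg⟩
  refine ⟨2, Subtype.ext ?_⟩
  rw [Subgroup.coe_pow, Subgroup.coe_one]
  have h : g ^ p ∈ H.rootGroup B.ee :=
    mem_root_of_eb hd B (pow_mem hg p) (by rw [eb_pow hd B hg, CharP.cast_eq_zero, zero_mul])
  show g ^ p ^ 2 = 1
  rw [pow_two, pow_mul, root_pow_char hd B p h]

end

end Cfsg.Lib.Known.PSUThree
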