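import Cfsg.Agent.Known.PSUThree.Point

/-!
Isometries of a hyperbolic plane in a three-dimensional Hermitian space: fixed points on the
projective line.
-/

set_option autoImplicit false
set_option linter.unusedSectionVars false
set_option linter.style.haveILetI false
set_option maxHeartbeats 1000000

namespace Cfsg.Lib.Known.PSUThree

open Cfsg.Lib.Classical Cfsg.Lib.Components.UnitaryThree

universe u v

variable {F : Type u} [Field F] [Finite F] {V : Type v} [AddCommGroup V] [Module F V]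
  [FiniteDimensional F V] {H : HermSpace F V}

theorem q_cast : (H.q : F) = 0 := by
  haveI := Fintype.ofFinite F
  have h : ((Fintype.card F : ℕ) : F) = 0 := Nat.cast_card_eq_zero F
  rw [← Nat.card_eq_fintype_card, H.card_field, Nat.cast_pow] at h
  exact pow_eq_zero_iff two_ne_zero |>.1 h

theorem card_fixed : Nat.card {a : F // H.σ a = a} = H.q := rfl

/-- An element of the fixed field has the shape `z² + z`. -/
theorem exists_artin {t : F} (ht : H.σ t = t) : ∃ z : F, z * z + z = t := by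
  classical
  haveI := Fintype.ofFinite F
  obtain ⟨θ, hθ⟩ := H.conj.exists_trace_one
  let S₁ : Finset F := Finset.univ.filter fun z => H.σ z = z
  let S₂ : Finset F := Finset.univ.filter fun z => z + H.σ z = -1
  have h1 : S₁.card = H.q := by
    rw [← card_fixed (H := H), Nat.card_eq_fintype_card, Fintype.card_subtype]
  have h2 : S₂.card = H.q := by
    have e : {z : F // z + H.σ z = -1} ≃ {c : F // c + H.σ c = 0} :=
      { toFun := fun z => ⟨z.1 + θ, by rw [map_add]; linear_combination z.2 + hθ⟩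
        invFun := fun c => ⟨c.1 - θ, by rw [map_sub]; linear_combination c.2 - hθ⟩
        left_inv := fun z => Subtype.ext (add_sub_cancel_right _ _)
        right_inv := fun c => Subtype.ext (sub_add_cancel _ _) }
    obtain ⟨ε, hε0, hε⟩ := H.conj.exists_skew
    have e' : {c : F // c + H.σ c = 0} ≃ {a : F // H.σ a = a} :=
      { toFun := fun c => ⟨c.1 / ε, by
          rw [map_div₀, eq_neg_of_add_eq_zero_right hε, eq_neg_of_add_eq_zero_right c.2, neg_div_neg_eq]⟩
        invFun := fun s => ⟨s.1 * ε, by rw [map_mul, s.2, ← mul_add, hε, mul_zero]⟩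
        left_inv := fun c => Subtype.ext (div_mul_cancel₀ _ hε0)
        right_inv := fun s => Subtype.ext (mul_div_cancel_right₀ _ hε0) }
    rw [← card_fixed (H := H), ← Nat.card_congr (e.trans e'), Nat.card_eq_fintype_card,
      Fintype.card_subtype]
  have hinter : (S₁ ∩ S₂).card ≤ 1 := Finset.card_le_one.2 fun x hx y hy => by
    simp only [S₁, S₂, Finset.mem_inter, Finset.mem_filter, Finset.mem_univ, true_and] at hx hy
    by_cases hc : (2 : F) = 0
    · exfalso
      have h := hx.2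
      rw [hx.1] at h
      have : (2 : F) * x = -1 := by linear_combination h
      rw [hc, zero_mul] at this
      exact one_ne_zero (neg_eq_zero.1 this.symm)
    · refine mul_left_cancel₀ hc ?_
      have h := hx.2
      have h' := hy.2
      rw [hx.1] at h
      rw [hy.1] at h'
      linear_combination h - h'
  let T : Finset F := (S₁ ∪ S₂).image fun z => z * z + z
  have hT : T ⊆ S₁ := by
    intro x hx
    simp only [T, Finset.mem_image, Finset.mem_union, S₁, S₂, Finset.mem_filter, Finset.mem_univ,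
      true_and] at hx ⊢
    obtain ⟨z, hz | hz, rfl⟩ := hx
    · rw [map_add, map_mul, hz]
    · have hσ : H.σ z = -1 - z := by linear_combination hz
      rw [map_add, map_mul, hσ]
      ring
  have hfib : (S₁ ∪ S₂).card ≤ 2 * T.card := by
    refine Finset.card_le_mul_card_image (S₁ ∪ S₂) 2 fun b _ => ?_
    by_contra! h
    obtain ⟨x, y, z, hx, hy, hz, hxy, hxz, hyz⟩ := Finset.two_lt_card_iff.1 h
    simp only [Finset.mem_filter] at hx hy hz
    have e1 : (x - y) * (x + y + 1) = 0 := by linear_combination hx.2 - hy.2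
    have e2 : (x - z) * (x + z + 1) = 0 := by linear_combination hx.2 - hz.2
    have e1' := (mul_eq_zero.1 e1).resolve_left (sub_ne_zero.2 hxy)
    have e2' := (mul_eq_zero.1 e2).resolve_left (sub_ne_zero.2 hxz)
    exact hyz (by linear_combination e1' - e2')
  have hu := Finset.card_union_add_card_inter S₁ S₂
  have heq : T = S₁ := Finset.eq_of_subset_of_card_le hT (by omega)
  have hm : t ∈ T := by rw [heq]; simp [S₁, ht]
  simp only [T, Finset.mem_image] at hm
  obtain ⟨z, -, hz⟩ := hm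
  exact ⟨z, hz⟩

/-- Every element of the fixed field is a square. -/
theorem exists_sqrt (hσ : ∀ x, H.σ x = x ^ H.q) {N : F} (hN : H.σ N = N) : ∃ y : F, y * y = N := by
  haveI := Fintype.ofFinite F
  rcases eq_or_ne N 0 with rfl | h0
  · exact ⟨0, mul_zero 0⟩
  by_cases hc : ringChar F = 2
  · obtain ⟨y, hy⟩ := FiniteField.isSquare_of_char_two hc N
    exact ⟨y, hy.symm⟩
  obtain ⟨y, hy⟩ : IsSquare N := by
    rw [FiniteField.isSquare_iff hc h0]
    have hodd : Fintype.card F % 2 = 1 := FiniteField.odd_card_of_char_ne_two hc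
    rw [← Nat.card_eq_fintype_card, H.card_field] at hodd ⊢
    obtain ⟨j, hj⟩ : Odd H.q := by
      rw [Nat.pow_mod] at hodd
      rcases Nat.mod_two_eq_zero_or_one H.q with h | h
      · rw [h] at hodd; norm_num at hodd
      · exact Nat.odd_iff.2 h
    have h1 : N ^ (2 * j) = 1 := by
      refine mul_right_cancel₀ h0 ?_
      rw [one_mul, ← pow_succ, ← hj, ← hσ, hN]
    rw [show H.q ^ 2 / 2 = 2 * j * (j + 1) by
      rw [hj, show (2 * j + 1) ^ 2 = 1 + 2 * (2 * j * (j + 1)) by ring, Nat.add_mul_div_left _ _ two_pos]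
      omega, pow_mul, h1, one_pow]
  exact ⟨y, hy.symm⟩

/-- A quadratic equation with skew linear term and fixed constant term is soluble. -/
theorem exists_root (hσ : ∀ x, H.σ x = x ^ H.q) {δ N : F} (hδ : δ + H.σ δ = 0) (hN : H.σ N = N) :
    ∃ y : F, y * y + δ * y = N := by
  rcases eq_or_ne δ 0 with rfl | hδ0
  · obtain ⟨y, hy⟩ := exists_sqrt hσ hN
    exact ⟨y, by rw [zero_mul, add_zero, hy]⟩
  obtain ⟨z, hz⟩ := exists_artin (H := H) (t := N / (δ * δ)) (by
    rw [map_div₀, map_mul, hN, eq_neg_of_add_eq_zero_right hδ, neg_mul_neg])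
  refine ⟨δ * z, ?_⟩
  field_simp at hz
  linear_combination hz

variable (hd : Module.finrank F V = 3) (B : Frame H)
include hd

theorem planar {x : V} (hx : H.h x B.w = 0) : x = H.h x B.f • B.e + H.h x B.e • B.f := by
  conv_lhs => rw [decomp hd B x]
  rw [hx, zero_smul, add_zero]

omit hd in
theorem map_plane {g : H.SIsom} {d : F} (hg : g.1.1 B.w = d • B.w) {x : V} (hx : H.h x B.w = 0) :
    H.h (g.1.1 x) B.w = 0 := by
  have h := H.map_form g.1 x B.w
  rw [hg, hx, H.smul_right] at h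
  refine (mul_eq_zero.1 h).resolve_left fun h0 => ?_
  rw [H.conj.eq_zero.1 h0, zero_smul] at hg
  refine H.isom_ne_zero g.1 (fun e => ?_) hg
  have := B.ww
  rw [e, H.zero_left] at this
  exact zero_ne_one this

/-- A frame at an isotropic vector of the plane, with the same middle vector. -/
theorem frame_at {x : V} (hx : H.h x B.w = 0) (hx0 : x ≠ 0) (hxx : H.h x x = 0) :
    ∃ C : Frame H, C.e = x ∧ C.w = B.w := by
  have hp := planar hd B hx
  by_cases hγ : H.h x B.e = 0
  · rw [hγ, zero_smul, add_zero] at hp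
    have hα : H.h x B.f ≠ 0 := fun h => hx0 (by rw [hp, h, zero_smul])
    refine ⟨⟨x, B.w, (H.σ (H.h x B.f))⁻¹ • B.f, hxx, ?_, ?_, B.ww, H.eq_zero_symm hx, ?_⟩, rfl, rfl⟩
    · rw [H.smul_left, H.smul_right, B.ff, mul_zero, mul_zero]
    · rw [H.smul_right, map_inv₀, H.conj.invol, inv_mul_cancel₀ hα]
    · rw [H.smul_right, B.wf, mul_zero]
  · refine ⟨⟨x, B.w, (H.σ (H.h x B.e))⁻¹ • B.e, hxx, ?_, ?_, B.ww, H.eq_zero_symm hx, ?_⟩, rfl, rfl⟩
    · rw [H.smul_left, H.smul_right, B.ee, mul_zero, mul_zero]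
    · rw [H.smul_right, map_inv₀, H.conj.invol, inv_mul_cancel₀ hγ]
    · rw [H.smul_right, B.we, mul_zero]

/-- Three eigenlines in the plane force a scalar. -/
theorem three_scalar (g : H.SIsom) {v₁ v₂ v₃ : V} (m₁ : H.h v₁ B.w = 0) (m₂ : H.h v₂ B.w = 0)
    (m₃ : H.h v₃ B.w = 0) (n₁ : v₁ ≠ 0) (h12 : ∀ t : F, t • v₁ ≠ v₂)
    (h13 : ∀ t : F, t • v₁ ≠ v₃) (h23 : ∀ t : F, t • v₂ ≠ v₃) {t₁ t₂ t₃ : F}
    (e₁ : g.1.1 v₁ = t₁ • v₁) (e₂ : g.1.1 v₂ = t₂ • v₂) (e₃ : g.1.1 v₃ = t₃ • v₃) :
    ∀ x, H.h x B.w = 0 → g.1.1 x = t₁ • x := by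
  set α₁ := H.h v₁ B.f
  set γ₁ := H.h v₁ B.e
  set α₂ := H.h v₂ B.f
  set γ₂ := H.h v₂ B.e
  set D := α₁ * γ₂ - α₂ * γ₁ with hD
  have p₁ : v₁ = α₁ • B.e + γ₁ • B.f := planar hd B m₁
  have p₂ : v₂ = α₂ • B.e + γ₂ • B.f := planar hd B m₂
  have hD0 : D ≠ 0 := by
    intro h0
    rcases eq_or_ne γ₁ 0 with hg | hg
    · have hα : α₁ ≠ 0 := fun h => n₁ (by rw [p₁, h, hg, zero_smul, zero_smul, add_zero])
      refine h12 (α₂ / α₁) ?_
      have : γ₂ = 0 := by
        rw [hD, hg, mul_zero, sub_zero] at h0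
        exact (mul_eq_zero.1 h0).resolve_left hα
      rw [p₁, p₂, this, hg, zero_smul, add_zero, add_zero, smul_smul, div_mul_cancel₀ _ hα]
    · refine h12 (γ₂ / γ₁) ?_
      rw [p₁, p₂, smul_add, smul_smul, smul_smul, div_mul_cancel₀ _ hg]
      congr 2
      field_simp
      linear_combination h0
  have comb : ∀ x, H.h x B.w = 0 → x = ((H.h x B.f * γ₂ - H.h x B.e * α₂) / D) • v₁ +
      ((α₁ * H.h x B.e - γ₁ * H.h x B.f) / D) • v₂ := by
    intro x hx
    conv_lhs => rw [planar hd B hx]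
    rw [p₁, p₂, smul_add, smul_add, smul_smul, smul_smul, smul_smul, smul_smul]
    rw [show ∀ a b c d : F, a • B.e + b • B.f + (c • B.e + d • B.f) = (a + c) • B.e + (b + d) • B.f from
      fun a b c d => by module]
    congr 2 <;> field_simp <;> ring
  have h3 := comb v₃ m₃
  set x₁ := (H.h v₃ B.f * γ₂ - H.h v₃ B.e * α₂) / D
  set x₂ := (α₁ * H.h v₃ B.e - γ₁ * H.h v₃ B.f) / D
  have hx₁ : x₁ ≠ 0 := fun h => h23 x₂ (by rw [h3, h, zero_smul, zero_add])
  have hx₂ : x₂ ≠ 0 := fun h => h13 x₁ (by rw [h3, h, zero_smul, add_zero])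
  have hind : ∀ a b : F, a • v₁ + b • v₂ = 0 → a = 0 ∧ b = 0 := by
    intro a b hab
    have hb : b = 0 := by
      by_contra hb
      refine h12 (-(b⁻¹ * a)) ?_
      have : b • v₂ = -(a • v₁) := eq_neg_of_add_eq_zero_right hab
      calc (-(b⁻¹ * a)) • v₁ = b⁻¹ • (-(a • v₁)) := by rw [smul_neg, smul_smul, neg_smul]
        _ = v₂ := by rw [← this, inv_smul_smul₀ hb]
    refine ⟨?_, hb⟩
    rw [hb, zero_smul, add_zero] at hab
    exact (smul_eq_zero.1 hab).resolve_right n₁
  have h := e₃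
  rw [h3, map_add, map_smul, map_smul, e₁, e₂] at h
  obtain ⟨ha, hb⟩ := hind (x₁ * t₁ - t₃ * x₁) (x₂ * t₂ - t₃ * x₂) (by
    linear_combination (norm := module) h)
  have h1 : t₁ = t₃ := mul_left_cancel₀ hx₁ (by linear_combination ha)
  have h2 : t₂ = t₃ := mul_left_cancel₀ hx₂ (by linear_combination hb)
  intro x hx
  rw [comb x hx, map_add, map_smul, map_smul, e₁, e₂, h2, ← h1]
  module

/-- An isometry of the plane has an eigenvector. -/
theorem exists_eig (hσ : ∀ x, H.σ x = x ^ H.q) (g : H.SIsom) {d : F} (hg : g.1.1 B.w = d • B.w) :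
    ∃ x : V, x ≠ 0 ∧ H.h x B.w = 0 ∧ ∃ t : F, g.1.1 x = t • x := by
  set α := H.h (g.1.1 B.e) B.f
  set γ := H.h (g.1.1 B.e) B.e
  set β := H.h (g.1.1 B.f) B.f
  set δ := H.h (g.1.1 B.f) B.e
  have pe : g.1.1 B.e = α • B.e + γ • B.f := planar hd B (map_plane B hg B.ew)
  have pf : g.1.1 B.f = β • B.e + δ • B.f := planar hd B (map_plane B hg B.fw)
  by_cases hγ : γ = 0
  · exact ⟨B.e, B.e_ne, B.ew, α, by rw [pe, hγ, zero_smul, add_zero]⟩
  have h1 := H.map_form g.1 B.e B.e
  have h2 := H.map_form g.1 B.e B.f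
  have h3 := H.map_form g.1 B.f B.f
  rw [pe, B.ee] at h1
  rw [pe, pf, B.ef] at h2
  rw [pf, B.ff] at h3
  simp [H.add_left, H.add_right, H.smul_left, H.smul_right, B.ee, B.ff, B.ef, B.fe] at h1 h2 h3
  have hσγ : H.σ γ ≠ 0 := (map_ne_zero _).2 hγ
  have hu : α / γ + H.σ (α / γ) = 0 := by
    rw [map_div₀]
    field_simp
    linear_combination h1
  have hN0 : β / γ = α / γ * (δ / γ) + 1 / (γ * H.σ γ) := by
    have h2' := congrArg H.σ h2
    rw [map_one, map_add, map_mul, map_mul, H.conj.invol, H.conj.invol] at h2'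
    field_simp
    linear_combination γ * h2' - δ * h1
  have hv : δ / γ + H.σ (δ / γ) = 0 := by
    have hu' : H.σ α = -(α * H.σ γ) / γ := by
      field_simp
      linear_combination h1
    have hβ : β = α / γ * δ + 1 / H.σ γ := by
      have e := hN0
      field_simp at e ⊢
      linear_combination e
    rw [map_div₀]
    rw [hβ, map_add, map_mul, map_div₀, map_div₀, map_one, H.conj.invol, hu'] at h3
    field_simp at h3 ⊢
    linear_combination h3
  have hN : H.σ (β / γ) = β / γ := by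
    rw [hN0, map_add, map_mul, eq_neg_of_add_eq_zero_right hu, eq_neg_of_add_eq_zero_right hv,
      map_div₀, map_one, H.conj.norm_mem, neg_mul_neg]
  obtain ⟨y, hy⟩ := exists_root hσ (δ := δ / γ - α / γ) (N := β / γ)
    (by rw [map_sub]; linear_combination hv - hu) hN
  refine ⟨y • B.e + B.f, fun h => ?_, ?_, γ * y + δ, ?_⟩
  · have := congrArg (fun z => H.h z B.e) h
    simp [H.add_left, H.smul_left, H.zero_left, B.ee, B.fe] at this
  · rw [H.add_left, H.smul_left, B.ew, B.fw, mul_zero, add_zero]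
  · have hq : y * α + β = (γ * y + δ) * y := by
      field_simp at hy
      linear_combination -hy
    rw [map_add, map_smul, pe, pf]
    linear_combination (norm := module) hq • B.e

/-- A second eigenline orthogonal to a non-isotropic one. -/
theorem second_eig (g : H.SIsom) {d : F} (hg : g.1.1 B.w = d • B.w) {x : V} (hx : H.h x B.w = 0)
    (hxx : H.h x x ≠ 0) {t : F} (ht : g.1.1 x = t • x) :
    ∃ y : V, y ≠ 0 ∧ H.h y B.w = 0 ∧ (∀ s : F, s • x ≠ y) ∧ ∃ s : F, g.1.1 y = s • y := by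
  set α := H.h x B.f with hα
  set γ := H.h x B.e with hγ
  have px := planar hd B hx
  rw [← hα, ← hγ] at px
  have hform : ∀ z, H.h z B.w = 0 → H.h z x = H.h z B.f * H.σ γ + H.h z B.e * H.σ α := by
    intro z hz
    conv_lhs => rw [planar hd B hz, px]
    simp [H.add_left, H.add_right, H.smul_left, H.smul_right, B.ee, B.ff, B.ef, B.fe]
  have hγ0 : γ ≠ 0 := fun h => hxx (by rw [hform x hx, ← hα, ← hγ, h, map_zero, mul_zero, zero_mul, add_zero])
  obtain ⟨y, hy⟩ : ∃ y, y = H.σ α • B.e - H.σ γ • B.f := ⟨_, rfl⟩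
  have yw : H.h y B.w = 0 := by rw [hy, H.sub_left, H.smul_left, H.smul_left, B.ew, B.fw, mul_zero, mul_zero, sub_zero]
  have yf : H.h y B.f = H.σ α := by rw [hy, H.sub_left, H.smul_left, H.smul_left, B.ef, B.ff]; ring
  have ye : H.h y B.e = -H.σ γ := by rw [hy, H.sub_left, H.smul_left, H.smul_left, B.ee, B.fe]; ring
  have hyx : H.h y x = 0 := by rw [hform y yw, yf, ye]; ring
  have hy0 : y ≠ 0 := fun h => by
    rw [h, H.zero_left] at ye
    exact hγ0 (H.conj.eq_zero.1 (neg_eq_zero.1 ye.symm))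
  have hsx : ∀ s : F, s • x ≠ y := by
    intro s hs
    rw [← hs, H.smul_left] at hyx
    refine hy0 ?_
    rw [← hs, (mul_eq_zero.1 hyx).resolve_right hxx, zero_smul]
  refine ⟨y, hy0, yw, hsx, ?_⟩
  have gyw := map_plane B hg yw
  have hgx : H.h (g.1.1 y) x = 0 := by
    have h := H.map_form g.1 y x
    rw [ht, hyx, H.smul_right] at h
    refine (mul_eq_zero.1 h).resolve_left fun h0 => ?_
    rw [H.conj.eq_zero.1 h0, zero_smul] at ht
    exact H.isom_ne_zero g.1 (fun e => hxx (by rw [e, H.zero_left])) ht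
  rw [hform _ gyw] at hgx
  refine ⟨-(H.h (g.1.1 y) B.e) / H.σ γ, ?_⟩
  have hσγ : H.σ γ ≠ 0 := (map_ne_zero _).2 hγ0
  have hq1 : H.h (g.1.1 y) B.f = -(H.h (g.1.1 y) B.e) / H.σ γ * H.σ α := by
    field_simp
    linear_combination hgx
  have hq2 : H.h (g.1.1 y) B.e = -(-(H.h (g.1.1 y) B.e) / H.σ γ * H.σ γ) := by field_simp
  have e := planar hd B gyw
  rw [hq1] at e
  rw [hy] at e hq2 ⊢
  linear_combination (norm := module) e + hq2 • B.f

/-- An element of the stabiliser that preserves the middle line. -/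
theorem borel_coords {g : H.SIsom} (hg : g ∈ stE B) {d : F} (hw : g.1.1 B.w = d • B.w) :
    eb B g = 0 ∧ em B g = 0 ∧ g.1.1 B.w = ed B g • B.w ∧ g.1.1 B.f = ec B g • B.e + en B g • B.f := by
  obtain ⟨he, -, hw', hf⟩ := coords hd B hg
  have hb : eb B g = 0 := by rw [eb, hw, H.smul_left, B.wf, mul_zero]
  have hm : em B g = 0 := by rw [em, map_plane B hw B.fw]
  rw [hb, zero_smul, zero_add] at hw'
  rw [hm, zero_smul, add_zero] at hf
  exact ⟨hb, hm, hw', hf⟩

/-- Eigenlines other than the first one. -/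
theorem eig_iff {g : H.SIsom} (hg : g ∈ stE B) {d : F} (hw : g.1.1 B.w = d • B.w) (y : F) :
    (∃ t : F, g.1.1 (y • B.e + B.f) = t • (y • B.e + B.f)) ↔
      ea B g * y + ec B g = en B g * y := by
  obtain ⟨he, -⟩ := coords hd B hg
  obtain ⟨-, -, -, hf⟩ := borel_coords hd B hg hw
  have himg : g.1.1 (y • B.e + B.f) = (ea B g * y + ec B g) • B.e + en B g • B.f := by
    rw [map_add, map_smul, he, hf]
    module
  constructor
  · rintro ⟨t, ht⟩
    rw [himg] at ht
    have h1 := congrArg (fun z => H.h z B.e) ht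
    have h2 := congrArg (fun z => H.h z B.f) ht
    simp [H.add_left, H.smul_left, B.ee, B.fe, B.ef, B.ff] at h1 h2
    rw [h1]
    linear_combination h2
  · intro h
    exact ⟨en B g, by rw [himg, h]; module⟩

/-- An element with a repeated eigenvalue agrees on the plane with a multiple of its `q+1` st
power, a root element. -/
theorem pow_root (hσ : ∀ x, H.σ x = x ^ H.q) {g : H.SIsom} (hg : g ∈ stE B) {d : F}
    (hw : g.1.1 B.w = d • B.w) (han : ea B g = en B g) :
    g ^ (H.q + 1) ∈ H.rootGroup B.ee ∧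
      ∀ x, H.h x B.w = 0 → g.1.1 x = ea B g • (g ^ (H.q + 1)).1.1 x := by
  obtain ⟨he, ha0, -⟩ := coords hd B hg
  obtain ⟨-, -, hw', hf⟩ := borel_coords hd B hg hw
  obtain ⟨r1, r2, -⟩ := relations hd B hg
  rw [← han, hσ] at r1
  rw [hσ] at r2
  rw [← han] at hf
  have hpow : ∀ i : ℕ, (g ^ (i + 1)).1.1 B.e = ea B g ^ (i + 1) • B.e ∧
      (g ^ (i + 1)).1.1 B.w = ed B g ^ (i + 1) • B.w ∧
      (g ^ (i + 1)).1.1 B.f =
        ((i + 1 : F) * ea B g ^ i * ec B g) • B.e + ea B g ^ (i + 1) • B.f := by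
    intro i
    induction i with
    | zero => simpa using ⟨he, hw', hf⟩
    | succ i ih =>
      obtain ⟨i1, i2, i3⟩ := ih
      rw [pow_succ' g]
      refine ⟨?_, ?_, ?_⟩
      · rw [H.smul_mul_apply, i1, map_smul, he]; module
      · rw [H.smul_mul_apply, i2, map_smul, hw']; module
      · rw [H.smul_mul_apply, i3, map_add, map_smul, map_smul, he, hf]
        push_cast
        module
  obtain ⟨p1, p2, p3⟩ := hpow H.q
  have ha1 : ea B g ^ (H.q + 1) = 1 := by rw [pow_succ']; exact r1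
  have hd1 : ed B g ^ (H.q + 1) = 1 := by rw [pow_succ']; exact r2
  rw [ha1, one_smul] at p1
  rw [hd1, one_smul] at p2
  rw [q_cast, zero_add, one_mul, ha1, one_smul] at p3
  have hfix : g ^ (H.q + 1) ∈ fixE B := p1
  refine ⟨mem_root_of_eb hd B hfix (by rw [eb, p2, B.wf]), fun x hx => ?_⟩
  rw [planar hd B hx, map_add, map_add, map_smul, map_smul, map_smul, map_smul, p1, p3, he, hf]
  have : ea B g * ea B g ^ H.q = 1 := r1
  linear_combination (norm := module) -((H.h x B.e * ec B g) • this • B.e)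

end Cfsg.Lib.Known.PSUThree
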