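import Cfsg.Agent.Known.PSUThree.Reduce

/-!
The Sylow subgroup for a primitive prime divisor of `q³ + 1` rules the exceptional orders out.
-/

set_option autoImplicit false
set_option linter.unusedSectionVars false
set_option linter.style.haveILetI false
set_option maxHeartbeats 1000000

open scoped LinearAlgebra.Projectivization

namespace Cfsg.Lib.Known.PSUThree

open Cfsg.Lib.Classical Cfsg.Lib.Components.UnitaryThree

universe u v

variable {F : Type u} [Field F] [Finite F] {V : Type v} [AddCommGroup V] [Module F V]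
  [FiniteDimensional F V] {H : HermSpace F V} {K : Subgroup H.SIsom} (hb : Big K)

/-- A primitive prime of the order and an element of that order. -/
structure Prim (K : Subgroup H.SIsom) (x : H.SIsom) (r : ℕ) : Prop where
  prime : r.Prime
  mem : x ∈ K
  order : orderOf x = r
  big : H.q + 1 < r
  stab : ∀ B : Frame H, ¬ r ∣ Nat.card (Lg K B)

variable {x : H.SIsom} {r : ℕ} (hx : Prim K x r)
include hb hx

theorem Prim.no_iso {v : V} (hv0 : v ≠ 0) (hvv : H.h v v = 0) {t : F} : x.1.1 v ≠ t • v := by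
  intro ht
  obtain ⟨B, hB⟩ := exists_frame hb.dim hv0 hvv
  have hmem : x ∈ Lg K B := ⟨hx.mem, mem_stE.2 ⟨t, by rw [hB]; exact ht⟩⟩
  refine hx.stab B ?_
  rw [← hx.order, ← Subgroup.orderOf_mk x hmem]
  exact orderOf_dvd_natCard _

theorem Prim.no_line {v : V} (hv0 : v ≠ 0) {t : F} : x.1.1 v ≠ t • v := by
  intro ht
  by_cases hvv : H.h v v = 0
  · exact hx.no_iso hb hv0 hvv ht
  obtain ⟨c, hc⟩ := H.conj.norm_surjective (a := H.h v v) (H.self_fixed v)
  have hc0 : c ≠ 0 := fun h => hvv (by rw [← hc, h, zero_mul])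
  obtain ⟨w, hw⟩ : ∃ w, w = c⁻¹ • v := ⟨_, rfl⟩
  have hww : H.h w w = 1 := by
    rw [hw, H.smul_left, H.smul_right, map_inv₀, ← hc]
    have : H.σ c ≠ 0 := (map_ne_zero _).2 hc0
    field_simp
  have hxw : x.1.1 w = t • w := by rw [hw, map_smul, ht, smul_comm]
  have hw0 : w ≠ 0 := fun h => by rw [h, H.zero_left] at hww; exact zero_ne_one hww
  set W := H.orth (Submodule.span F ({w} : Set V)) with hW
  have hWmem : ∀ y, y ∈ W ↔ H.h y w = 0 := fun y => by rw [hW, H.mem_orth_span]; simp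
  have hWd : Module.finrank F W = 2 := by
    have h := H.finrank_orth (Submodule.span F ({w} : Set V))
    rw [finrank_span_singleton hw0, hb.dim] at h
    rw [hW]
    omega
  obtain ⟨e, heW, he0, hee⟩ := isotropic_in (H := H) hb.dim hWd.ge
  have hn : H.NondegOn W :=
    H.nondegOn_orth (H.nondegOn_span_singleton (by rw [hww]; exact one_ne_zero))
  obtain ⟨f, hef, hff⟩ := (H.restrict W hn).exists_hyperbolic (v := ⟨e, heW⟩)
    (fun h => he0 (congrArg Subtype.val h)) hee
  let B : Frame H := ⟨e, w, f.1, hee, hff, hef, hww, H.eq_zero_symm ((hWmem e).1 heW),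
    H.eq_zero_symm ((hWmem f.1).1 f.2)⟩
  set g : Mg K B := ⟨x, mem_Mg.2 ⟨hx.mem, t, hxw⟩⟩
  set p₀ : Pl B := plMk B B.e B.e_ne B.ew
  set P := Subgroup.zpowers g
  have hP : Nat.card P = r := by rw [Nat.card_zpowers, ← Subgroup.orderOf_coe, ← hx.order]
  have hsub : MulAction.orbit P p₀ ⊆ {p | PlIso p} := by
    rintro _ ⟨k, rfl⟩
    show PlIso (k.1 • p₀)
    rw [smul_plMk, plIso_mk, H.map_form, B.ee]
  have hle : Nat.card (MulAction.orbit P p₀) ≤ H.q + 1 := by
    rw [← card_plIso hb.dim B, Nat.card_coe_set_eq]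
    refine (Set.ncard_le_ncard hsub (Set.toFinite _)).trans_eq ?_
    rw [← Nat.card_coe_set_eq]
    rfl
  have hdvd : Nat.card (MulAction.orbit P p₀) ∣ r := by
    rw [← hP, Nat.card_coe_set_eq, ← MulAction.index_stabilizer]
    exact Subgroup.index_dvd_card _
  have h1 : Nat.card (MulAction.orbit P p₀) = 1 :=
    (hx.prime.eq_one_or_self_of_dvd _ hdvd).resolve_right fun h => by
      have := hx.big
      omega
  haveI := (Nat.card_eq_one_iff_unique.1 h1).1
  have hfix : g • p₀ = p₀ :=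
    congrArg Subtype.val (Subsingleton.elim
      (⟨g • p₀, ⟨⟨g, Subgroup.mem_zpowers g⟩, rfl⟩⟩ : MulAction.orbit P p₀)
      ⟨p₀, MulAction.mem_orbit_self _⟩)
  obtain ⟨s, hs⟩ := (smul_eq_iff g _ _).1 hfix
  exact hx.no_iso hb B.e_ne B.ee hs

/-- An element commuting with `x` that has an eigenvector is a scalar. -/
theorem Prim.comm_scalar {g : H.SIsom} (hg : g * x = x * g) {v : V} (hv0 : v ≠ 0) {l : F}
    (hv : g.1.1 v = l • v) : l ^ 3 = 1 ∧ ∀ y, g.1.1 y = l • y := by
  have hd := hb.dim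
  set W := LinearMap.ker (g.1.1.toLinearMap - l • LinearMap.id) with hW
  have hWmem : ∀ y, y ∈ W ↔ g.1.1 y = l • y := fun y => by simp [hW, sub_eq_zero]
  have hxW : ∀ y ∈ W, x.1.1 y ∈ W := by
    intro y hy
    rw [hWmem] at hy ⊢
    rw [← H.smul_mul_apply, hg, H.smul_mul_apply, hy, map_smul]
  have hxW' : ∀ y ∈ W, (x⁻¹).1.1 y ∈ W := by
    intro y hy
    rw [hWmem] at hy ⊢
    have hg' : g * x⁻¹ = x⁻¹ * g := (Commute.inv_right hg).eq
    rw [← H.smul_mul_apply, hg', H.smul_mul_apply, hy, map_smul]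
  have hline : ∀ U : Submodule F V, Module.finrank F U = 1 → (∀ y ∈ U, x.1.1 y ∈ U) → False := by
    intro U hU hUx
    haveI : Nontrivial U := Module.nontrivial_of_finrank_pos (R := F) (by omega)
    obtain ⟨y, hy⟩ := exists_ne (0 : U)
    obtain ⟨t, ht⟩ := (finrank_eq_one_iff_of_nonzero' y hy).1 hU ⟨_, hUx y.1 y.2⟩
    exact hx.no_line hb (fun h => hy (Subtype.ext h)) (congrArg Subtype.val ht).symm
  have hpos : 1 ≤ Module.finrank F W :=
    Submodule.one_le_finrank_iff.2 fun h => hv0 ((Submodule.mem_bot F).1 (h ▸ (hWmem v).2 hv))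
  have h3 := Submodule.finrank_le W
  rw [hd] at h3
  have htop : W = ⊤ := by
    refine Submodule.eq_top_of_finrank_eq ?_
    rw [hd]
    by_contra hne
    have : Module.finrank F W = 1 ∨ Module.finrank F W = 2 := by omega
    rcases this with h | h
    · exact hline W h hxW
    · refine hline (H.orth W) (by rw [H.finrank_orth, hd, h]) fun y hy => ?_
      rw [H.mem_orth] at hy ⊢
      intro z hz
      have h2 := hy _ (hxW' z hz)
      rw [← H.map_form x.1, show x.1.1 ((x⁻¹).1.1 z) = z from H.apply_inv_self x.1 z] at h2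
      exact h2
  have hall : ∀ y, g.1.1 y = l • y := fun y => (hWmem y).1 (htop ▸ Submodule.mem_top)
  refine ⟨?_, hall⟩
  have hlin : g.1.1.toLinearMap = l • LinearMap.id := LinearMap.ext fun y => hall y
  have h := det_one g
  rw [hlin, LinearMap.det_smul, hd, LinearMap.det_id, mul_one] at h
  exact h

theorem Prim.comm_cube {g : H.SIsom} (hg : g * x = x * g) {v : V} (hv0 : v ≠ 0) {l : F}
    (hv : g.1.1 v = l • v) : g ^ 3 = 1 := by
  obtain ⟨h3, hall⟩ := hx.comm_scalar hb hg hv0 hv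
  refine H.sisom_ext fun y => ?_
  rw [pow_succ, pow_two, H.smul_mul_apply, H.smul_mul_apply, hall, hall, hall, smul_smul, smul_smul,
    show l * l * l = l ^ 3 by ring, h3, one_smul]
  rfl

theorem Prim.no_involution {t : H.SIsom} (ht2 : t * t = 1) (ht1 : t ≠ 1)
    (htn : t * x * t⁻¹ ∈ Subgroup.zpowers x) : False := by
  have hd := hb.dim
  have hti : t⁻¹ = t := inv_eq_of_mul_eq_one_right ht2
  rw [hti] at htn
  set y := x * (t * x * t) with hy
  have hymem : y ∈ Subgroup.zpowers x := mul_mem (Subgroup.mem_zpowers x) htn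
  have hcomm : ∀ z ∈ Subgroup.zpowers x, z * x = x * z := by
    rintro z ⟨m, rfl⟩
    exact ((Commute.refl x).zpow_left m).eq
  have hty : t * y = y * t := by
    have h1 : t * x * t * x = x * (t * x * t) := hcomm _ htn
    calc t * y = t * x * t * x * t := by rw [hy]; group
      _ = x * (t * x * t) * t := by rw [h1]
      _ = y * t := rfl
  obtain ⟨W, s, hW, hs⟩ := big_eig hd ht2
  by_cases hy1 : y = 1
  · have htx : (t * x) * (t * x) = 1 := by
      have : t * x * t = x⁻¹ := eq_inv_of_mul_eq_one_right (hy ▸ hy1)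
      calc (t * x) * (t * x) = t * x * t * x := by group
        _ = x⁻¹ * x := by rw [this]
        _ = 1 := inv_mul_cancel x
    obtain ⟨W', s', hW', hs'⟩ := big_eig hd htx
    have h1 := Submodule.finrank_sup_add_finrank_inf_eq W W'
    have h2 := Submodule.finrank_le (W ⊔ W')
    rw [hd] at h2
    haveI : Nontrivial (W ⊓ W' : Submodule F V) :=
      Module.nontrivial_of_finrank_pos (R := F) (by omega)
    obtain ⟨v, hv⟩ := exists_ne (0 : (W ⊓ W' : Submodule F V))
    refine hx.no_line hb (v := v.1) (t := s' * s) (fun h => hv (Subtype.ext h)) ?_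
    have e1 := hs' v.1 v.2.2
    rw [H.smul_mul_apply] at e1
    have e2 := congrArg t.1.1 e1
    rw [← H.smul_mul_apply, ht2, map_smul, hs v.1 v.2.1, smul_smul] at e2
    exact e2
  · have hgen : x ∈ Subgroup.zpowers y := by
      have hle : Subgroup.zpowers y ≤ Subgroup.zpowers x := Subgroup.zpowers_le.2 hymem
      have hord : orderOf y = r := by
        have hd' : orderOf y ∣ r := hx.order ▸ orderOf_dvd_of_mem_zpowers hymem
        exact (hx.prime.eq_one_or_self_of_dvd _ hd').resolve_left fun h => hy1 (orderOf_eq_one_iff.1 h)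
      rw [Subgroup.eq_of_le_of_card_ge hle (by rw [Nat.card_zpowers, Nat.card_zpowers, hord, hx.order])]
      exact Subgroup.mem_zpowers x
    obtain ⟨m, hm⟩ := hgen
    have hc : t * x = x * t := by
      rw [← hm]
      exact ((show Commute t y from hty).zpow_right m).eq
    haveI : Nontrivial W := Module.nontrivial_of_finrank_pos (R := F) (by omega)
    obtain ⟨v, hv⟩ := exists_ne (0 : W)
    have h3 := hx.comm_cube hb hc (fun h => hv (Subtype.ext h)) (hs v.1 v.2)
    rw [pow_succ, pow_two, ht2, one_mul] at h3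
    exact ht1 h3

omit hb hx in
/-- An element of prime order has an eigenvector when that prime does not divide the number of
points of the plane. -/
theorem exists_eig_prime (hd : Module.finrank F V = 3) {g : H.SIsom} {l : ℕ} [hl : Fact l.Prime]
    (hg : orderOf g = l) (hdiv : ¬ l ∣ H.q ^ 4 + H.q ^ 2 + 1) :
    ∃ v : V, v ≠ 0 ∧ ∃ t : F, g.1.1 v = t • v := by
  classical
  haveI : Finite V := Module.finite_of_finite F
  letI : MulAction H.SIsom (ℙ F V) :=
    { smul := fun k p => Projectivization.mk F (k.1.1 p.rep) (H.isom_ne_zero k.1 p.rep_nonzero)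
      one_smul := fun p => Projectivization.mk_rep p
      mul_smul := fun a b p => by
        show Projectivization.mk F _ _ = Projectivization.mk F _ _
        rw [Projectivization.mk_eq_mk_iff']
        obtain ⟨c, hc⟩ := Projectivization.exists_smul_eq_mk_rep F (b.1.1 p.rep)
          (H.isom_ne_zero b.1 p.rep_nonzero)
        refine ⟨((c⁻¹ : Fˣ) : F), ?_⟩
        change ((c⁻¹ : Fˣ) : F) • a.1.1 (Projectivization.mk F (b.1.1 p.rep) _).rep =
          a.1.1 (b.1.1 p.rep)
        rw [← map_smul, ← hc, Units.smul_def, smul_smul, ← Units.val_mul, inv_mul_cancel,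
          Units.val_one, one_smul] }
  have hP : IsPGroup l (Subgroup.zpowers g) :=
    IsPGroup.iff_card.2 ⟨1, by rw [Nat.card_zpowers, hg, pow_one]⟩
  have hcard : Nat.card (ℙ F V) = H.q ^ 4 + H.q ^ 2 + 1 := by
    rw [Projectivization.card_of_finrank F V hd, H.card_field]
    simp [Finset.sum_range_succ]
    ring
  obtain ⟨p, hp⟩ := hP.nonempty_fixed_point_of_prime_not_dvd_card (ℙ F V) (hcard ▸ hdiv)
  have h : g • p = p := hp ⟨g, Subgroup.mem_zpowers g⟩
  refine ⟨p.rep, p.rep_nonzero, ?_⟩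
  have h' : Projectivization.mk F (g.1.1 p.rep) (H.isom_ne_zero g.1 p.rep_nonzero) =
      Projectivization.mk F p.rep p.rep_nonzero := h.trans (Projectivization.mk_rep p).symm
  obtain ⟨t, ht⟩ := (Projectivization.mk_eq_mk_iff' F _ _ _ _).1 h'
  exact ⟨t, ht.symm⟩

omit hb hx in
/-- An automorphism of coprime order of a group of prime order is trivial. -/
theorem centralise {G : Type*} [Group G] {g y : G} {l : ℕ} (hl : l.Prime) (hr : r.Prime)
    (hg : orderOf g = l) (hy : orderOf y = r) (hn : g * y * g⁻¹ ∈ Subgroup.zpowers y)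
    (hdiv : ¬ l ∣ r - 1) : g * y = y * g := by
  haveI : Fact r.Prime := ⟨hr⟩
  obtain ⟨k, hk⟩ := hn
  have hk' : y ^ k = g * y * g⁻¹ := hk
  have hiter : ∀ n : ℕ, g ^ n * y * (g ^ n)⁻¹ = y ^ (k ^ n) := by
    intro n
    induction n with
    | zero => simp
    | succ n ih =>
      rw [pow_succ' g, show g * g ^ n * y * (g * g ^ n)⁻¹ = g * (g ^ n * y * (g ^ n)⁻¹) * g⁻¹ by group,
        ih, ← MulAut.conj_apply, map_zpow, MulAut.conj_apply, ← hk', ← zpow_mul, pow_succ']
  have h1 := hiter l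
  rw [← hg, pow_orderOf_eq_one, hg, one_mul, inv_one, mul_one] at h1
  have h2 : (k : ZMod r) ^ l = 1 := by
    have h3 : y ^ (k ^ l - 1) = 1 := by rw [zpow_sub_one, ← h1, mul_inv_cancel]
    rw [← orderOf_dvd_iff_zpow_eq_one, hy, ← ZMod.intCast_zmod_eq_zero_iff_dvd] at h3
    push_cast at h3
    exact sub_eq_zero.1 h3
  have hk0 : (k : ZMod r) ≠ 0 := fun h => by rw [h, zero_pow hl.ne_zero] at h2; exact zero_ne_one h2
  have h4 : (k : ZMod r) ^ Nat.gcd l (r - 1) = 1 :=
    pow_gcd_eq_one.2 ⟨h2, ZMod.pow_card_sub_one_eq_one hk0⟩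
  rw [(hl.coprime_iff_not_dvd.2 hdiv).gcd_eq_one, pow_one] at h4
  have h5 : y ^ (k - 1) = 1 := by
    rw [← orderOf_dvd_iff_zpow_eq_one, hy, ← ZMod.intCast_zmod_eq_zero_iff_dvd]
    push_cast
    exact sub_eq_zero.2 h4
  rw [zpow_sub_one, mul_inv_eq_one] at h5
  rw [h5] at hk'
  calc g * y = g * y * g⁻¹ * g := by group
    _ = y * g := by rw [← hk']

omit hx in
/-- The normalizer of a Sylow subgroup of a primitive prime. -/
theorem sylow_count (hr : r.Prime) (hbig : H.q + 1 < r) (hdvd : r ∣ Nat.card K)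
    (hsq : ¬ r ^ 2 ∣ Nat.card K) (hstab : ∀ B : Frame H, ¬ r ∣ Nat.card (Lg K B)) :
    ∃ (P : Sylow r K) (m n : ℕ), Nat.card P = r ∧
      Nat.card (Subgroup.normalizer ((P : Subgroup K) : Set K)) = r * m ∧
      Nat.card K = r * (m * n) ∧ n % r = 1 ∧ ¬ 2 ∣ m ∧
      ∀ l : ℕ, l.Prime → l ≠ 3 → ¬ l ∣ r - 1 → ¬ l ∣ H.q ^ 4 + H.q ^ 2 + 1 → ¬ l ∣ m := by
  classical
  haveI : Fact r.Prime := ⟨hr⟩
  obtain ⟨P⟩ : Nonempty (Sylow r K) := inferInstance
  obtain ⟨s, hs⟩ := IsPGroup.iff_card.1 P.2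
  have hP : Nat.card P = r := by
    have h1 : r ∣ Nat.card P := P.dvd_card_of_dvd_card hdvd
    have h2 : Nat.card P ∣ Nat.card K := Subgroup.card_subgroup_dvd_card _
    rcases s with _ | _ | s
    · rw [pow_zero] at hs; rw [hs, Nat.dvd_one] at h1; exact absurd h1 hr.ne_one
    · rw [pow_one] at hs; exact hs
    · exact absurd ((pow_dvd_pow r (by omega)).trans (hs ▸ h2)) hsq
  set N := Subgroup.normalizer ((P : Subgroup K) : Set K)
  obtain ⟨m, hm⟩ : r ∣ Nat.card N := hP ▸ Subgroup.card_dvd_of_le (P : Subgroup K).le_normalizer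
  have hKn := N.card_mul_index
  have hmod : N.index % r = 1 := by
    have h := card_sylow_modEq_one r K
    rw [P.card_eq_index_normalizer, Nat.ModEq, Nat.one_mod_eq_one.2 hr.ne_one] at h
    exact h
  obtain ⟨y, hy⟩ := exists_prime_orderOf_dvd_card' (G := P) r (by rw [hP])
  have hyr : orderOf (y.1 : K) = r := by rw [Subgroup.orderOf_coe, hy]
  have hgen : Subgroup.zpowers (y.1 : K) = (P : Subgroup K) :=
    Subgroup.eq_of_le_of_card_ge (Subgroup.zpowers_le.2 y.2) (by rw [Nat.card_zpowers, hyr, hP])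
  have hprim : Prim K y.1.1 r :=
    { prime := hr
      mem := y.1.2
      order := by rw [Subgroup.orderOf_coe, hyr]
      big := hbig
      stab := hstab }
  have hnorm : ∀ g ∈ N, g * y.1 * g⁻¹ ∈ Subgroup.zpowers (y.1 : K) := fun g hg => by
    rw [hgen]
    exact (Subgroup.mem_normalizer_iff.1 hg y.1).1 y.2
  have hup : ∀ g : K, g * y.1 * g⁻¹ ∈ Subgroup.zpowers (y.1 : K) →
      g.1 * y.1.1 * g.1⁻¹ ∈ Subgroup.zpowers y.1.1 := by
    rintro g ⟨k, hk⟩
    refine ⟨k, ?_⟩
    have hk' : y.1 ^ k = g * y.1 * g⁻¹ := hk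
    simpa using congrArg Subtype.val hk'
  refine ⟨P, m, N.index, hP, hm, ?_, hmod, ?_, ?_⟩
  · rw [← mul_assoc, ← hm, hKn]
  · intro h2
    haveI : Fact (Nat.Prime 2) := ⟨Nat.prime_two⟩
    obtain ⟨g, hg⟩ := exists_prime_orderOf_dvd_card' (G := N) 2 (hm ▸ h2.trans (dvd_mul_left _ _))
    have hgo : orderOf g.1.1 = 2 := by rw [Subgroup.orderOf_coe, Subgroup.orderOf_coe, hg]
    refine hprim.no_involution hb ?_ ?_ (hup g.1 (hnorm g.1 g.2))
    · rw [← pow_two, ← hgo, pow_orderOf_eq_one]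
    · intro h
      rw [h, orderOf_one] at hgo
      norm_num at hgo
  · intro l hl h3 h1 hline hlm
    haveI : Fact l.Prime := ⟨hl⟩
    obtain ⟨g, hg⟩ := exists_prime_orderOf_dvd_card' (G := N) l (hm ▸ hlm.trans (dvd_mul_left _ _))
    have hgo : orderOf g.1.1 = l := by rw [Subgroup.orderOf_coe, Subgroup.orderOf_coe, hg]
    have hc := centralise hl hr hgo hprim.order (hup g.1 (hnorm g.1 g.2)) h1
    obtain ⟨v, hv0, t, hv⟩ := exists_eig_prime hb.dim hgo hline
    have := orderOf_dvd_of_pow_eq_one (hprim.comm_cube hb hc hv0 hv)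
    rw [hgo] at this
    exact h3 ((Nat.prime_dvd_prime_iff_eq hl Nat.prime_three).1 this)

omit hx in
theorem excl_three (hq : H.q = 3) (hL : ∀ B : Frame H, Nat.card (Lg K B) = 8) (B : Frame H) : False := by
  have hK : Nat.card K = 224 := by rw [hb.card_eq B, hL B, hq]; norm_num
  obtain ⟨-, m, n, -, -, hmn, hn, h2, -⟩ := sylow_count hb (r := 7) (by norm_num) (by rw [hq]; norm_num)
    (by rw [hK]; norm_num) (by rw [hK]; norm_num) (fun B => by rw [hL B]; norm_num)
  have hm : m ∣ 2 ^ 5 := ⟨n, by omega⟩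
  obtain rfl : m = 1 := by
    obtain ⟨i, -, rfl⟩ := (Nat.dvd_prime_pow Nat.prime_two).1 hm
    rcases i with _ | i
    · rfl
    · exact absurd (dvd_pow_self 2 (Nat.succ_ne_zero i)) h2
  omega

omit hx in
theorem excl_four (hq : H.q = 4) {L : ℕ} (hL : ∀ B : Frame H, Nat.card (Lg K B) = L)
    (hL' : L = 20 ∨ L = 40) (B : Frame H) : False := by
  have hK : Nat.card K = 65 * L := by rw [hb.card_eq B, hL B, hq]; norm_num
  obtain ⟨-, m, n, -, -, hmn, hn, h2, hl⟩ := sylow_count hb (r := 13) (by norm_num) (by rw [hq]; norm_num)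
    (by rw [hK]; exact dvd_mul_of_dvd_left (by norm_num) _)
    (by rw [hK]; rcases hL' with rfl | rfl <;> norm_num)
    (fun B => by rw [hL B]; rcases hL' with rfl | rfl <;> norm_num)
  have h5 : ¬ 5 ∣ m := hl 5 (by norm_num) (by norm_num) (by norm_num) (by rw [hq]; norm_num)
  have hc : Nat.Coprime m 200 := by
    rw [show (200 : ℕ) = 2 ^ 3 * 5 ^ 2 by norm_num]
    exact (((Nat.prime_two.coprime_iff_not_dvd.2 h2).symm).pow_right 3).mul_right
      ((((by norm_num : Nat.Prime 5).coprime_iff_not_dvd.2 h5).symm).pow_right 2)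
  have hm : m ∣ 200 := by
    rw [hK] at hmn
    rcases hL' with rfl | rfl
    · exact dvd_trans ⟨n, by omega⟩ (show 100 ∣ 200 by norm_num)
    · exact ⟨n, by omega⟩
  obtain rfl : m = 1 := Nat.eq_one_of_dvd_coprimes hc dvd_rfl hm
  rcases hL' with rfl | rfl <;> omega

omit hx in
theorem excl_eight (hq : H.q = 8) (hL : ∀ B : Frame H, Nat.card (Lg K B) = 72) (B : Frame H) : False := by
  have hK : Nat.card K = 36936 := by rw [hb.card_eq B, hL B, hq]; norm_num
  obtain ⟨-, m, n, -, -, hmn, hn, h2, -⟩ := sylow_count hb (r := 19) (by norm_num) (by rw [hq]; norm_num)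
    (by rw [hK]; norm_num) (by rw [hK]; norm_num) (fun B => by rw [hL B]; norm_num)
  have hm : m ∣ 3 ^ 5 := by
    refine (((Nat.prime_two.coprime_iff_not_dvd.2 h2).symm).pow_right 3).dvd_of_dvd_mul_left ?_
    exact ⟨n, by norm_num; omega⟩
  obtain ⟨i, hi, rfl⟩ := (Nat.dvd_prime_pow Nat.prime_three).1 hm
  interval_cases i <;> omega

omit hx in
theorem excl_nine (hq : H.q = 9) {u e : ℕ} (hu : u ≤ 5) (he : e ∣ 20)
    (hL : ∀ B : Frame H, Nat.card (Lg K B) = 3 ^ u * e) (B : Frame H) : False := by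
  have hK : Nat.card K = 73 * (10 * (3 ^ u * e)) := by rw [hb.card_eq B, hL B, hq]; ring
  have h73 : ¬ 73 ∣ 3 ^ u * e := by
    intro h
    rcases (by norm_num : Nat.Prime 73).dvd_mul.1 h with h | h
    · have := (by norm_num : Nat.Prime 73).dvd_of_dvd_pow h
      norm_num at this
    · have := Nat.le_of_dvd (by norm_num) (h.trans he)
      omega
  obtain ⟨-, m, n, -, -, hmn, hn, h2, hl⟩ := sylow_count hb (r := 73) (by norm_num) (by rw [hq]; norm_num)
    (by rw [hK]; exact dvd_mul_right _ _)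
    (by
      rw [hK, pow_two]
      intro h
      have h' := Nat.dvd_of_mul_dvd_mul_left (by norm_num) h
      rcases (by norm_num : Nat.Prime 73).dvd_mul.1 h' with h'' | h''
      · norm_num at h''
      · exact h73 h'')
    (fun B => by rw [hL B]; exact h73)
  have h5 : ¬ 5 ∣ m := hl 5 (by norm_num) (by norm_num) (by norm_num) (by rw [hq]; norm_num)
  have hc : Nat.Coprime m 200 := by
    rw [show (200 : ℕ) = 2 ^ 3 * 5 ^ 2 by norm_num]
    exact (((Nat.prime_two.coprime_iff_not_dvd.2 h2).symm).pow_right 3).mul_right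
      ((((by norm_num : Nat.Prime 5).coprime_iff_not_dvd.2 h5).symm).pow_right 2)
  have hmn' : m * n = 10 * (3 ^ u * e) := by rw [hK] at hmn; omega
  have hce : Nat.Coprime m (10 * e) := hc.coprime_dvd_right (Nat.mul_dvd_mul_left 10 he)
  have hm : m ∣ 3 ^ u := hce.dvd_of_dvd_mul_left ⟨n, by rw [hmn']; ring⟩
  obtain ⟨i, hi, rfl⟩ := (Nat.dvd_prime_pow Nat.prime_three).1 hm
  obtain ⟨j, rfl⟩ := Nat.exists_eq_add_of_le hi
  have hn' : n = 10 * e * 3 ^ j := by
    refine Nat.eq_of_mul_eq_mul_left (show 0 < 3 ^ i by positivity) ?_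
    rw [hmn', pow_add]; ring
  have key : ∀ e ∈ Nat.divisors 20, ∀ j < 6, 10 * e * 3 ^ j % 73 ≠ 1 := by decide
  exact key e (Nat.mem_divisors.2 ⟨he, by norm_num⟩) j (by omega) (hn' ▸ hn)

omit hx in
theorem excl_eleven (hZ : Subgroup.center H.SIsom ≤ K) (hq : H.q = 11)
    (hL : ∀ B : Frame H, Nat.card (Lg K B) = 330) (hN : ∀ B : Frame H, Nat.card (Ng K B) = 11)
    (B : Frame H) : False := by
  classical
  have hd := hb.dim
  haveI : Fact (Nat.Prime 37) := ⟨by norm_num⟩
  have hK : Nat.card K = 439560 := by rw [hb.card_eq B, hL B, hq]; norm_num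
  obtain ⟨P, m, n, hP, hNP, hmn, hn, h2, hl⟩ := sylow_count hb (r := 37) (by norm_num) (by rw [hq]; norm_num)
    (by rw [hK]; norm_num) (by rw [hK]; norm_num) (fun B => by rw [hL B]; norm_num)
  have h5 : ¬ 5 ∣ m := hl 5 (by norm_num) (by norm_num) (by norm_num) (by rw [hq]; norm_num)
  have h11 : ¬ 11 ∣ m := hl 11 (by norm_num) (by norm_num) (by norm_num) (by rw [hq]; norm_num)
  have hc : Nat.Coprime m 440 := by
    rw [show (440 : ℕ) = 2 ^ 3 * 5 * 11 by norm_num]
    exact ((((Nat.prime_two.coprime_iff_not_dvd.2 h2).symm).pow_right 3).mul_right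
      ((by norm_num : Nat.Prime 5).coprime_iff_not_dvd.2 h5).symm).mul_right
      ((by norm_num : Nat.Prime 11).coprime_iff_not_dvd.2 h11).symm
  have hm : m ∣ 3 ^ 3 := hc.dvd_of_dvd_mul_left ⟨n, by norm_num; omega⟩
  obtain ⟨i, hi, rfl⟩ := (Nat.dvd_prime_pow Nat.prime_three).1 hm
  have hi1 : i = 1 := by interval_cases i <;> omega
  subst hi1
  set N := Subgroup.normalizer ((P : Subgroup K) : Set K)
  have hNC : N ≤ Subgroup.centralizer ((P : Subgroup K) : Set K) := by
    haveI : Fact (Nat.Prime 3) := ⟨Nat.prime_three⟩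
    have hZc : Nat.card (Subgroup.center H.SIsom) = 3 := by
      rw [H.card_center_SIsom (by omega), hd, hq]; rfl
    obtain ⟨z, hz⟩ := exists_prime_orderOf_dvd_card' (G := Subgroup.center H.SIsom) 3 (by rw [hZc])
    set z' : K := ⟨z.1, hZ z.2⟩
    have hz' : orderOf z' = 3 := by
      rw [← Subgroup.orderOf_coe, show (z' : H.SIsom) = z.1 from rfl, Subgroup.orderOf_coe, hz]
    have hzc : ∀ k : K, k * z' = z' * k := fun k =>
      Subtype.ext (Subgroup.mem_center_iff.1 z.2 k.1)
    set C := Subgroup.centralizer ((P : Subgroup K) : Set K) ⊓ N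
    haveI : IsCyclic P := isCyclic_of_prime_card (p := 37) hP
    have hPC : (P : Subgroup K) ≤ C := by
      refine le_inf (fun a ha => Subgroup.mem_centralizer_iff.2 fun b hb' => ?_) (P : Subgroup K).le_normalizer
      exact congrArg Subtype.val
        ((IsCyclic.commGroup (α := P)).mul_comm (⟨b, hb'⟩ : P) ⟨a, ha⟩)
    have hzC : z' ∈ C := by
      refine ⟨Subgroup.mem_centralizer_iff.2 fun b _ => hzc b, Subgroup.mem_normalizer_iff.2 fun b => ?_⟩
      rw [show z' * b * z'⁻¹ = b by rw [← hzc b, mul_inv_cancel_right]]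
    have h37 : 37 ∣ Nat.card C := hP ▸ Subgroup.card_dvd_of_le hPC
    have h3 : 3 ∣ Nat.card C := by
      rw [← hz', ← Subgroup.orderOf_mk z' hzC]
      exact orderOf_dvd_natCard _
    have h111 : 37 * 3 ∣ Nat.card C := Nat.Coprime.mul_dvd_of_dvd_of_dvd (by norm_num) h37 h3
    have hCN : C = N := Subgroup.eq_of_le_of_card_ge inf_le_right (by
      rw [hNP, pow_one]
      exact Nat.le_of_dvd Nat.card_pos h111)
    exact hCN.symm.le.trans inf_le_left
  set T := MonoidHom.transferSylow P hNC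
  have hM := MonoidHom.ker_transferSylow_isComplement' P hNC
  have hMcard : Nat.card T.ker * 37 = 439560 :=
    (congrArg (Nat.card T.ker * ·) hP).symm.trans (hM.card_mul_card.trans hK)
  choose Cf hCf using fun p : H.IsoPt => exists_frame_pt hd p
  haveI : Fact (Nat.Prime 11) := ⟨by norm_num⟩
  have hmem : ∀ (p : H.IsoPt) (a : Ng K (Cf p)), (⟨a.1, a.2.1⟩ : K) ∈ T.ker := by
    intro p a
    rw [MonoidHom.mem_ker]
    set a' : K := ⟨a.1, a.2.1⟩
    have h1 : orderOf a' ∣ 11 := by
      rw [← Subgroup.orderOf_coe, show ((a' : K) : H.SIsom) = a.1 from rfl, Subgroup.orderOf_coe,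
        ← hN (Cf p)]
      exact orderOf_dvd_natCard _
    have h2 : orderOf (T a') ∣ 11 := (orderOf_map_dvd T a').trans h1
    have h3 : orderOf (T a') ∣ Nat.card P := orderOf_dvd_natCard _
    rw [hP] at h3
    exact orderOf_eq_one_iff.1 (Nat.eq_one_of_dvd_coprimes (by norm_num) h2 h3)
  let Φ : (Σ p : H.IsoPt, {a : Ng K (Cf p) // a ≠ 1}) → T.ker := fun z =>
    ⟨⟨z.2.1.1, z.2.1.2.1⟩, hmem z.1 z.2.1⟩
  have hinj : Function.Injective Φ := by
    rintro ⟨p, a⟩ ⟨p', a'⟩ h
    have e : a.1.1 = a'.1.1 := congrArg (fun z : T.ker => z.1.1) h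
    have hfix : a.1.1 • pt (Cf p') = pt (Cf p') := by
      rw [e]
      exact fixE_le_stE (Cf p') a'.1.2.2
    have hpp := fix_pt hd (Cf p) a.1.2.2 (fun h1 => a.2 (Subtype.ext h1)) hfix
    rw [hCf, hCf] at hpp
    subst hpp
    exact congrArg _ (Subtype.ext (Subtype.ext e))
  have hle := Nat.card_le_card_of_injective Φ hinj
  haveI : Fintype H.IsoPt := Fintype.ofFinite _
  rw [Nat.card_sigma] at hle
  have h10 : ∀ p, Nat.card {a : Ng K (Cf p) // a ≠ 1} = 10 := fun p => by
    haveI := Fintype.ofFinite (Ng K (Cf p))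
    have h := hN (Cf p)
    rw [Nat.card_eq_fintype_card] at h ⊢
    rw [Fintype.card_subtype_compl, Fintype.card_subtype_eq, h]
  rw [Finset.sum_congr rfl fun p _ => h10 p, Finset.sum_const, Finset.card_univ,
    ← Nat.card_eq_fintype_card, hb.pts, hq, smul_eq_mul] at hle
  norm_num at hle hMcard
  omega

omit hx in
/-- A subgroup of order at least `(q³+1)(q²-1)` containing the centre is everything. -/
theorem top_of_big (h5 : H.q ≠ 5) (hZ : Subgroup.center H.SIsom ≤ K) : K = ⊤ := by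
  haveI : Nonempty H.IsoPt :=
    (Nat.card_pos_iff.1 (show 0 < Nat.card H.IsoPt by rw [hb.pts]; exact Nat.succ_pos _)).1
  obtain ⟨B, -⟩ := exists_frame_pt hb.dim (Classical.arbitrary H.IsoPt)
  by_cases hA : Nat.card (Ag K B) = 1
  · exfalso
    rcases no_root hb h5 (fun C => (hb.card_Ag C B).trans hA) B with ⟨hq, hL⟩ | ⟨hq, hL, hN⟩
    · exact excl_three hb hq (fun C => (hb.card_Lg C B).trans hL) B
    · exact excl_eleven hb hZ hq (fun C => (hb.card_Lg C B).trans hL) hN B
  have h2 : 2 ≤ Nat.card (Ag K B) := by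
    have : 0 < Nat.card (Ag K B) := Nat.card_pos
    omega
  by_cases hlt : H.q ≤ Nat.card (Ag K B)
  · exact hb.top_of_root B hlt
  exfalso
  rcases root_case hb B h2 (not_le.1 hlt) with hA2 | ⟨hq, hA3, hc⟩
  · rcases two_root hb B hA2 with ⟨hq, hL⟩ | ⟨hq, hL⟩
    · exact excl_four hb hq (fun C => hb.card_Lg C B) hL B
    · exact excl_eight hb hq (fun C => (hb.card_Lg C B).trans hL) B
  · haveI := hc
    obtain ⟨u, e, hu, he, hL⟩ := three_root hb B hq hA3
    exact excl_nine hb hq hu he (fun C => (hb.card_Lg C B).trans hL) B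

end Cfsg.Lib.Known.PSUThree
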