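import Cfsg.Agent.Known.PSUThree.Orbit
import Cfsg.Agent.Known.PSUThree.Plane

/-!
The orbit equation for the action of the stabiliser of a chord on the points of its line.
-/

set_option autoImplicit false
set_option linter.unusedSectionVars false
set_option linter.style.haveILetI false
set_option maxHeartbeats 1000000

open scoped LinearAlgebra.Projectivization

namespace Cfsg.Lib.Known.PSUThree

open Cfsg.Lib.Classical Cfsg.Lib.Components.UnitaryThree

universe u v

/-- Orders of images under two homomorphisms with nested kernels. -/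
theorem card_range_nested {G P Q : Type*} [Group G] [Finite G] [Group P] [Group Q] (ψ : G →* P)
    (φ : G →* Q) (h : ψ.ker ≤ φ.ker) :
    Nat.card ψ.range = Nat.card φ.range * Nat.card (φ.ker.map ψ) := by
  have h1 := φ.ker.card_mul_index
  have h2 := ψ.ker.card_mul_index
  rw [Subgroup.index_ker] at h1 h2
  have h3 := (ψ.comp φ.ker.subtype).ker.card_mul_index
  rw [Subgroup.index_ker, MonoidHom.range_comp, Subgroup.range_subtype,
    show (ψ.comp φ.ker.subtype).ker = ψ.ker.subgroupOf φ.ker from rfl,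
    Nat.card_congr (Subgroup.subgroupOfEquivOfLe h).toEquiv] at h3
  refine Nat.eq_of_mul_eq_mul_left (Nat.card_pos (α := ψ.ker)) ?_
  rw [h2, ← h1, ← h3]
  ring

variable {F : Type u} [Field F] [Finite F] {V : Type v} [AddCommGroup V] [Module F V]
  [FiniteDimensional F V] {H : HermSpace F V}

theorem w_ne (B : Frame H) : B.w ≠ 0 := fun h => by
  have := B.ww
  rw [h, H.zero_left] at this
  exact zero_ne_one this

/-- The stabiliser of the middle line. -/
noncomputable def midStab (B : Frame H) : Subgroup H.SIsom where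
  carrier := {g | ∃ d : F, g.1.1 B.w = d • B.w}
  mul_mem' := by
    rintro g k ⟨d, hg⟩ ⟨d', hk⟩
    exact ⟨d' * d, by rw [H.smul_mul_apply, hk, map_smul, hg, smul_smul]⟩
  one_mem' := ⟨1, (one_smul F B.w).symm⟩
  inv_mem' := by
    rintro g ⟨d, hg⟩
    have hd0 : d ≠ 0 := fun h => by
      rw [h, zero_smul] at hg
      exact H.isom_ne_zero g.1 (w_ne B) hg
    refine ⟨d⁻¹, ?_⟩
    show (g.1⁻¹).1 B.w = _
    conv_rhs => rw [← H.inv_apply_self g.1 B.w, hg, map_smul, inv_smul_smul₀ hd0]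

/-- The stabiliser of the chord in `K`. -/
noncomputable def Mg (K : Subgroup H.SIsom) (B : Frame H) : Subgroup H.SIsom := K ⊓ midStab B

theorem mem_Mg {K : Subgroup H.SIsom} {B : Frame H} {g : H.SIsom} :
    g ∈ Mg K B ↔ g ∈ K ∧ ∃ d : F, g.1.1 B.w = d • B.w := Iff.rfl

/-- The points of the line of the chord. -/
def Pl (B : Frame H) : Type v := {P : ℙ F V // H.h P.rep B.w = 0}

theorem pl_aux (B : Frame H) {x : V} (hx0 : x ≠ 0) (hx : H.h x B.w = 0) :
    H.h (Projectivization.mk F x hx0).rep B.w = 0 := by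
  obtain ⟨a, ha⟩ := Projectivization.exists_smul_eq_mk_rep F x hx0
  rw [← ha, Units.smul_def, H.smul_left, hx, mul_zero]

/-- The point of a vector. -/
noncomputable def plMk (B : Frame H) (x : V) (hx0 : x ≠ 0) (hx : H.h x B.w = 0) : Pl B :=
  ⟨Projectivization.mk F x hx0, pl_aux B hx0 hx⟩

theorem plMk_eq_iff {B : Frame H} {x y : V} {hx0 : x ≠ 0} {hy0 : y ≠ 0} {hx : H.h x B.w = 0}
    {hy : H.h y B.w = 0} : plMk B x hx0 hx = plMk B y hy0 hy ↔ ∃ c : F, c • y = x := by
  refine Iff.trans ⟨fun h => congrArg Subtype.val h, fun h => Subtype.ext h⟩ ?_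
  exact Projectivization.mk_eq_mk_iff' F x y hx0 hy0

theorem pl_ind {B : Frame H} {P : Pl B → Prop} (h : ∀ x hx0 hx, P (plMk B x hx0 hx)) (p : Pl B) :
    P p := by
  obtain ⟨p, hp⟩ := p
  have := h p.rep p.rep_nonzero hp
  simpa [plMk, Projectivization.mk_rep] using this

noncomputable instance plAction (K : Subgroup H.SIsom) (B : Frame H) : MulAction (Mg K B) (Pl B) where
  smul g p := plMk B (g.1.1.1 p.1.rep) (H.isom_ne_zero g.1.1 p.1.rep_nonzero)
    (map_plane B g.2.2.choose_spec p.2)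
  one_smul p := Subtype.ext (Projectivization.mk_rep p.1)
  mul_smul a b p := by
    change plMk B _ _ _ = plMk B _ _ _
    rw [plMk_eq_iff]
    obtain ⟨c, hc⟩ := Projectivization.exists_smul_eq_mk_rep F (b.1.1.1 p.1.rep)
      (H.isom_ne_zero b.1.1 p.1.rep_nonzero)
    refine ⟨((c⁻¹ : Fˣ) : F), ?_⟩
    change ((c⁻¹ : Fˣ) : F) • a.1.1.1 (Projectivization.mk F (b.1.1.1 p.1.rep) _).rep =
      a.1.1.1 (b.1.1.1 p.1.rep)
    rw [← map_smul, ← hc, Units.smul_def, smul_smul, ← Units.val_mul, inv_mul_cancel, Units.val_one,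
      one_smul]

theorem smul_plMk {K : Subgroup H.SIsom} {B : Frame H} (g : Mg K B) {x : V} (hx0 : x ≠ 0)
    (hx : H.h x B.w = 0) :
    g • plMk B x hx0 hx =
      plMk B (g.1.1.1 x) (H.isom_ne_zero g.1.1 hx0) (map_plane B g.2.2.choose_spec hx) := by
  change plMk B _ _ _ = plMk B _ _ _
  rw [plMk_eq_iff]
  obtain ⟨c, hc⟩ := Projectivization.exists_smul_eq_mk_rep F x hx0
  refine ⟨(c : F), ?_⟩
  change (c : F) • g.1.1.1 x = g.1.1.1 (Projectivization.mk F x hx0).rep
  rw [← hc, Units.smul_def, map_smul]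

theorem smul_eq_iff {K : Subgroup H.SIsom} {B : Frame H} (g : Mg K B) {x : V} (hx0 : x ≠ 0)
    (hx : H.h x B.w = 0) :
    g • plMk B x hx0 hx = plMk B x hx0 hx ↔ ∃ t : F, g.1.1.1 x = t • x := by
  rw [smul_plMk, plMk_eq_iff]
  exact ⟨fun ⟨t, h⟩ => ⟨t, h.symm⟩, fun ⟨t, h⟩ => ⟨t, h.symm⟩⟩

instance finite_pl (B : Frame H) : Finite (Pl B) := by
  haveI : Finite V := Module.finite_of_finite F
  exact Subtype.finite

/-- An isotropic point. -/
def PlIso {B : Frame H} (p : Pl B) : Prop := H.h p.1.rep p.1.rep = 0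

theorem plIso_mk {B : Frame H} {x : V} (hx0 : x ≠ 0) (hx : H.h x B.w = 0) :
    PlIso (plMk B x hx0 hx) ↔ H.h x x = 0 := H.iso_mk_iff hx0

variable (hd : Module.finrank F V = 3) (K : Subgroup H.SIsom) (B : Frame H)

/-- The permutation group on the line. -/
noncomputable abbrev rho : Mg K B →* Equiv.Perm (Pl B) := MulAction.toPermHom (Mg K B) (Pl B)

/-- The other point of a hyperbolic pair. -/
theorem line_vec {C : Frame H} (hC : C.w = B.w) (y : F) :
    y • C.e + C.f ≠ 0 ∧ H.h (y • C.e + C.f) B.w = 0 := by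
  refine ⟨fun h => ?_, ?_⟩
  · have := congrArg (fun z => H.h z C.e) h
    simp [H.add_left, H.smul_left, H.zero_left, C.ee, C.fe] at this
  · rw [← hC, H.add_left, H.smul_left, C.ew, C.fw, mul_zero, add_zero]

theorem e_plane {C : Frame H} (hC : C.w = B.w) : H.h C.e B.w = 0 := hC ▸ C.ew

include hd

theorem pl_cases {C : Frame H} (hC : C.w = B.w) (p : Pl B) :
    p = plMk B C.e C.e_ne (e_plane B hC) ∨
      ∃ y : F, p = plMk B (y • C.e + C.f) (line_vec B hC y).1 (line_vec B hC y).2 := by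
  induction p using pl_ind with | h x hx0 hx => ?_
  have hp := planar hd C (hC ▸ hx)
  by_cases hγ : H.h x C.e = 0
  · left
    rw [hγ, zero_smul, add_zero] at hp
    exact plMk_eq_iff.2 ⟨_, hp.symm⟩
  · right
    refine ⟨H.h x C.f / H.h x C.e, plMk_eq_iff.2 ⟨H.h x C.e, ?_⟩⟩
    rw [smul_add, smul_smul, mul_div_cancel₀ _ hγ]
    exact hp.symm

theorem card_pl : Nat.card (Pl B) = H.q ^ 2 + 1 := by
  have hf : Function.Bijective (fun o : Option F => o.elim (plMk B B.e B.e_ne B.ew)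
      fun y => plMk B (y • B.e + B.f) (line_vec B rfl y).1 (line_vec B rfl y).2) := by
    refine ⟨?_, fun p => ?_⟩
    · rintro (_ | y) (_ | y') h
      · rfl
      all_goals simp only [Option.elim, plMk_eq_iff] at h
      all_goals obtain ⟨c, hc⟩ := h
      all_goals have h1 := congrArg (fun z => H.h z B.e) hc
      all_goals have h2 := congrArg (fun z => H.h z B.f) hc
      all_goals simp [H.add_left, H.smul_left, B.ee, B.fe, B.ef, B.ff] at h1 h2
      · rw [h1, zero_mul] at h2; exact absurd h2 zero_ne_one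
      · rw [h1, one_mul] at h2; rw [h2]
    · rcases pl_cases hd B rfl p with rfl | ⟨y, rfl⟩
      · exact ⟨none, rfl⟩
      · exact ⟨some y, rfl⟩
  rw [← Nat.card_eq_of_bijective _ hf, Finite.card_option, H.card_field]

theorem card_plIso : Nat.card {p : Pl B // PlIso p} = H.q + 1 := by
  have hiso : ∀ y : F, H.h (y • B.e + B.f) (y • B.e + B.f) = y + H.σ y := fun y => by
    simp [H.add_left, H.add_right, H.smul_left, H.smul_right, B.ee, B.ef, B.fe, B.ff]
  let f : Option {c : F // c + H.σ c = 0} → {p : Pl B // PlIso p} := fun o => o.elim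
    ⟨plMk B B.e B.e_ne B.ew, (plIso_mk _ _).2 B.ee⟩
    fun y => ⟨plMk B (y.1 • B.e + B.f) (line_vec B rfl y.1).1 (line_vec B rfl y.1).2,
      (plIso_mk _ _).2 ((hiso _).trans y.2)⟩
  have hf : Function.Bijective f := by
    refine ⟨?_, fun p => ?_⟩
    · rintro (_ | y) (_ | y') h
      · rfl
      all_goals simp only [f, Option.elim, Subtype.mk.injEq, plMk_eq_iff] at h
      all_goals obtain ⟨c, hc⟩ := h
      all_goals have h1 := congrArg (fun z => H.h z B.e) hc
      all_goals have h2 := congrArg (fun z => H.h z B.f) hc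
      all_goals simp [H.add_left, H.smul_left, B.ee, B.fe, B.ef, B.ff] at h1 h2
      · rw [h1, zero_mul] at h2; exact absurd h2 zero_ne_one
      · rw [h1, one_mul] at h2; exact congrArg some (Subtype.ext h2.symm)
    · rcases pl_cases hd B rfl p.1 with e | ⟨y, e⟩
      · exact ⟨none, Subtype.ext e.symm⟩
      · have hp := p.2
        rw [e, plIso_mk, hiso] at hp
        exact ⟨some ⟨y, hp⟩, Subtype.ext e.symm⟩
  rw [← Nat.card_eq_of_bijective f hf, Finite.card_option, card_skew]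

omit hd in
theorem Ag_le_Mg {C : Frame H} (hC : C.w = B.w) : Ag K C ≤ Mg K B := fun a ha => by
  refine mem_Mg.2 ⟨ha.1, 1, ?_⟩
  obtain ⟨hc, e⟩ := root_eq_sT C ha.2
  rw [e, H.sT_apply, ← hC, C.we, mul_zero, zero_smul, add_zero, one_smul]

/-- A non-trivial root element fixes one point of the line only. -/
theorem root_fix {C : Frame H} (hC : C.w = B.w) {a : Mg K B} (ha : a.1 ∈ H.rootGroup C.ee)
    (ha1 : a.1 ≠ 1) (p : Pl B) : a • p = p ↔ p = plMk B C.e C.e_ne (e_plane B hC) := by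
  have hfe : a.1.1.1 C.e = C.e := (root_le_fixE C).1 ha
  constructor
  · intro h
    rcases pl_cases hd B hC p with rfl | ⟨y, rfl⟩
    · rfl
    · exfalso
      rw [smul_eq_iff] at h
      obtain ⟨d, hw⟩ := a.2.2
      have := (eig_iff hd C (fixE_le_stE C hfe) (hC.symm ▸ hw) y).1 h
      have h1 : ea C a.1 = 1 := by rw [ea, hfe, C.ef]
      have h2 : en C a.1 = 1 := by
        have h := H.map_form a.1.1 C.f C.e
        rw [hfe, C.fe] at h
        exact h
      rw [h1, h2, one_mul, add_eq_left] at this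
      exact ha1 (ext_fixE hd C hfe (one_mem _)
        (((root_le_fixE C).2 _ ha).trans (eb_one C).1.symm) (this.trans (eb_one C).2.symm))
  · rintro rfl
    exact (smul_eq_iff _ _ _).2 ⟨1, by rw [one_smul, hfe]⟩

theorem rho_eq_one {g : Mg K B} (h : rho K B g = 1) :
    ∀ p : Pl B, g • p = p := fun p => Equiv.ext_iff.1 h p

/-- A plane scalar is trivial on the line. -/
theorem rho_congr {g k : Mg K B} {a : F} (h : ∀ x, H.h x B.w = 0 → g.1.1.1 x = a • k.1.1.1 x) :
    rho K B g = rho K B k := by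
  refine Equiv.ext fun p => ?_
  show g • p = k • p
  induction p using pl_ind with | h x hx0 hx => ?_
  rw [smul_plMk, smul_plMk, plMk_eq_iff]
  exact ⟨a, (h x hx).symm⟩

/-- The point stabiliser in `M`. -/
noncomputable def St : Subgroup (Mg K B) := (stE B).subgroupOf (Mg K B)

omit hd in
theorem St_mem {K : Subgroup H.SIsom} {B : Frame H} (g : St K B) : g.1.1 ∈ stE B := g.2

omit hd in
theorem mem_St {g : Mg K B} : g ∈ St K B ↔ g • plMk B B.e B.e_ne B.ew = plMk B B.e B.e_ne B.ew := by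
  rw [smul_eq_iff, St, Subgroup.mem_subgroupOf, mem_stE]

/-- The norm of the eigenvalue. -/
noncomputable def normHom : St K B →* Fˣ :=
  (normUnits H.σ).comp ((MonoidHom.toHomUnits
    { toFun := fun g : St K B => ea B g.1.1
      map_one' := B.ef
      map_mul' := fun g k => ea_mul hd B (St_mem g) (St_mem k) }))

omit hd in
theorem normHom_apply (hd : Module.finrank F V = 3) (g : St K B) :
    (normHom hd K B g : F) = ea B g.1.1 * H.σ (ea B g.1.1) := rfl

variable (hσ : ∀ x, H.σ x = x ^ H.q)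
include hσ

theorem card_stab_image :
    Nat.card ((St K B).map (rho K B)) = Nat.card (normHom hd K B).range * Nat.card (Ag K B) := by
  classical
  set ψ : St K B →* Equiv.Perm (Pl B) := (rho K B).comp (St K B).subtype with hψ
  have hrange : (St K B).map (rho K B) = ψ.range := by
    rw [hψ, MonoidHom.range_comp, Subgroup.range_subtype]
  have hnorm : ∀ g : St K B, normHom hd K B g = 1 ↔ ea B g.1.1 = en B g.1.1 := by
    intro g
    obtain ⟨r1, -⟩ := relations hd B (St_mem g)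
    have h0 : ea B g.1.1 ≠ 0 := left_ne_zero_of_mul_eq_one r1
    have hσn : H.σ (en B g.1.1) ≠ 0 := right_ne_zero_of_mul_eq_one r1
    rw [Units.ext_iff, normHom_apply, Units.val_one]
    constructor
    · intro h
      refine H.conj.inj (mul_left_cancel₀ h0 ?_)
      rw [h, r1]
    · intro h
      rw [h] at r1 ⊢
      exact r1
  have hker : ψ.ker ≤ (normHom hd K B).ker := by
    intro g hg
    rw [MonoidHom.mem_ker, hnorm]
    obtain ⟨d, hw⟩ := g.1.2.2
    have hfix := rho_eq_one hd K B (g := g.1) hg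
    have h0 := (eig_iff hd B (St_mem g) hw 0).1 ((smul_eq_iff _ (line_vec B rfl 0).1 (line_vec B rfl 0).2).1 (hfix _))
    have h1 := (eig_iff hd B (St_mem g) hw 1).1 ((smul_eq_iff _ (line_vec B rfl 1).1 (line_vec B rfl 1).2).1 (hfix _))
    rw [mul_zero, zero_add, mul_zero] at h0
    rw [h0, add_zero, mul_one, mul_one] at h1
    exact h1
  rw [hrange, card_range_nested ψ _ hker]
  congr 1
  have hmemSt : ∀ a : Ag K B, (⟨a.1, Ag_le_Mg K B rfl a.2⟩ : Mg K B) ∈ St K B := fun a =>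
    fixE_le_stE B ((root_le_fixE B).1 a.2.2)
  have hmemker : ∀ a : Ag K B, (⟨_, hmemSt a⟩ : St K B) ∈ (normHom hd K B).ker := fun a => by
    rw [MonoidHom.mem_ker, hnorm]
    have hfe : a.1.1.1 B.e = B.e := (root_le_fixE B).1 a.2.2
    show ea B a.1 = en B a.1
    have h := H.map_form a.1.1 B.f B.e
    rw [hfe, B.fe] at h
    rw [ea, hfe, B.ef]
    exact h.symm
  refine (Nat.card_eq_of_bijective (fun a : Ag K B =>
    (⟨ψ ⟨_, hmemSt a⟩, Subgroup.mem_map_of_mem ψ (hmemker a)⟩ : (normHom hd K B).ker.map ψ))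
    ⟨?_, ?_⟩).symm
  · intro a a' h
    have e : rho K B ⟨a.1, Ag_le_Mg K B rfl a.2⟩ = rho K B ⟨a'.1, Ag_le_Mg K B rfl a'.2⟩ :=
      congrArg Subtype.val h
    by_contra hne
    have hmem : a.1 * a'.1⁻¹ ∈ Ag K B := mul_mem a.2 (inv_mem a'.2)
    have h1 : rho K B ⟨a.1 * a'.1⁻¹, Ag_le_Mg K B rfl hmem⟩ = 1 := by
      rw [show (⟨a.1 * a'.1⁻¹, Ag_le_Mg K B rfl hmem⟩ : Mg K B) =
        ⟨a.1, Ag_le_Mg K B rfl a.2⟩ * ⟨a'.1, Ag_le_Mg K B rfl a'.2⟩⁻¹ from rfl,
        map_mul, map_inv, e, mul_inv_cancel]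
    have := (root_fix hd K B rfl (a := ⟨_, Ag_le_Mg K B rfl hmem⟩) hmem.2
      (fun h' => hne (Subtype.ext (mul_inv_eq_one.1 h')))
      (plMk B (0 • B.e + B.f) (line_vec B rfl 0).1 (line_vec B rfl 0).2)).1
      (rho_eq_one hd K B h1 _)
    obtain ⟨c, hc⟩ := plMk_eq_iff.1 this
    have := congrArg (fun z => H.h z B.e) hc
    simp [H.add_left, H.smul_left, B.ee, B.fe] at this
  · rintro ⟨x, g, hg, rfl⟩
    obtain ⟨d, hw⟩ := g.1.2.2
    obtain ⟨hroot, heq⟩ := pow_root hd B hσ (St_mem g) hw ((hnorm g).1 hg)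
    refine ⟨⟨g.1.1 ^ (H.q + 1), pow_mem g.1.2.1 _, hroot⟩, Subtype.ext ?_⟩
    exact (rho_congr hd K B (g := g.1)
      (k := ⟨g.1.1 ^ (H.q + 1), Ag_le_Mg K B rfl ⟨pow_mem g.1.2.1 _, hroot⟩⟩) heq).symm

/-- The torus part is bounded by the root elements. -/
theorem card_normHom_le {a : H.SIsom} (ha : a ∈ Ag K B) (ha1 : a ≠ 1) :
    Nat.card (normHom hd K B).range + 1 ≤ Nat.card (Ag K B) := by
  have hne : ec B a ≠ 0 := fun h => ha1 (ext_fixE hd B ((root_le_fixE B).1 ha.2) (one_mem _)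
    (((root_le_fixE B).2 _ ha.2).trans (eb_one B).1.symm) (h.trans (eb_one B).2.symm))
  choose g hg using fun u : (normHom hd K B).range => u.2
  rw [← Finite.card_option]
  let f : Option (normHom hd K B).range → Ag K B := fun o => o.elim 1 fun u =>
    ⟨(g u).1.1 * a * (g u).1.1⁻¹, K.mul_mem (K.mul_mem (g u).1.2.1 ha.1) (K.inv_mem (g u).1.2.1),
      (conj_ec hd B (St_mem (g u)) ha.2).1⟩
  have hval : ∀ u, ec B (f (some u)).1 = (u.1 : F) * ec B a := fun u => by
    show ec B ((g u).1.1 * a * (g u).1.1⁻¹) = _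
    rw [(conj_ec hd B (St_mem (g u)) ha.2).2, ← normHom_apply K B hd (g u), hg u]
  refine Nat.card_le_card_of_injective f ?_
  rintro (_ | u) (_ | u') h
  · rfl
  · exfalso
    have := congrArg (fun x : Ag K B => ec B x.1) h
    rw [hval, show ec B (f none).1 = 0 from (eb_one B).2] at this
    exact mul_ne_zero u'.1.ne_zero hne this.symm
  · exfalso
    have := congrArg (fun x : Ag K B => ec B x.1) h
    rw [hval, show ec B (f none).1 = 0 from (eb_one B).2] at this
    exact mul_ne_zero u.1.ne_zero hne this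
  · have := congrArg (fun x : Ag K B => ec B x.1) h
    rw [hval, hval] at this
    exact congrArg some (Subtype.ext (Units.ext (mul_right_cancel₀ hne this)))

theorem fix_le_two {x : (rho K B).range} (hx : x ≠ 1) :
    Nat.card (MulAction.fixedBy (Pl B) x) ≤ 2 := by
  classical
  by_contra! h
  haveI := Fintype.ofFinite (MulAction.fixedBy (Pl B) x)
  rw [Nat.card_eq_fintype_card] at h
  obtain ⟨p₁, p₂, p₃, h12, h13, h23⟩ := Fintype.two_lt_card_iff.1 h
  obtain ⟨g, hg⟩ := x.2
  have hfix : ∀ p : MulAction.fixedBy (Pl B) x, g • p.1 = p.1 := fun p =>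
    (Equiv.ext_iff.1 hg p.1).trans p.2
  obtain ⟨q₁, hq₁⟩ := p₁
  obtain ⟨q₂, hq₂⟩ := p₂
  obtain ⟨q₃, hq₃⟩ := p₃
  induction q₁ using pl_ind with | h x₁ a₁ b₁ => ?_
  induction q₂ using pl_ind with | h x₂ a₂ b₂ => ?_
  induction q₃ using pl_ind with | h x₃ a₃ b₃ => ?_
  obtain ⟨t₁, e₁⟩ := (smul_eq_iff g a₁ b₁).1 (hfix ⟨_, hq₁⟩)
  obtain ⟨t₂, e₂⟩ := (smul_eq_iff g a₂ b₂).1 (hfix ⟨_, hq₂⟩)
  obtain ⟨t₃, e₃⟩ := (smul_eq_iff g a₃ b₃).1 (hfix ⟨_, hq₃⟩)
  have hsc := three_scalar hd B g.1 b₁ b₂ b₃ a₁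
    (fun t ht => h12 (Subtype.ext (plMk_eq_iff.2 ⟨t, ht⟩ :
      plMk B x₂ a₂ b₂ = plMk B x₁ a₁ b₁).symm))
    (fun t ht => h13 (Subtype.ext (plMk_eq_iff.2 ⟨t, ht⟩ :
      plMk B x₃ a₃ b₃ = plMk B x₁ a₁ b₁).symm))
    (fun t ht => h23 (Subtype.ext (plMk_eq_iff.2 ⟨t, ht⟩ :
      plMk B x₃ a₃ b₃ = plMk B x₂ a₂ b₂).symm)) e₁ e₂ e₃
  refine hx (Subtype.ext ?_)
  rw [← hg, rho_congr hd K B (g := g) (k := 1) (a := t₁) (fun v hv => hsc v hv), map_one]
  rfl

theorem fix_pos (x : (rho K B).range) : 1 ≤ Nat.card (MulAction.fixedBy (Pl B) x) := by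
  obtain ⟨g, hg⟩ := x.2
  obtain ⟨d, hw⟩ := g.2.2
  obtain ⟨v, hv0, hv, ht⟩ := exists_eig hd B hσ g.1 hw
  haveI : Nonempty (MulAction.fixedBy (Pl B) x) := ⟨⟨plMk B v hv0 hv,
    ((Equiv.ext_iff.1 hg _).symm.trans ((smul_eq_iff g hv0 hv).2 ht))⟩⟩
  exact Nat.card_pos

/-- The frame at an isotropic point of the line. -/
theorem exists_frame_pl (p : {p : Pl B // PlIso p}) :
    ∃ C : Frame H, ∃ hC : C.w = B.w, p.1 = plMk B C.e C.e_ne (e_plane B hC) := by
  obtain ⟨p, hp⟩ := p
  induction p using pl_ind with | h x hx0 hx => ?_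
  obtain ⟨C, hCe, hC⟩ := frame_at hd B hx hx0 ((plIso_mk _ _).1 hp)
  exact ⟨C, hC, (plMk_eq_iff (B := B) (hx0 := hx0) (hx := hx)).2 ⟨1, by rw [one_smul, hCe]⟩⟩

theorem card_one {A : ℕ} (hA : ∀ C : Frame H, C.w = B.w → Nat.card (Ag K C) = A) :
    Nat.card {x : (rho K B).range // Nat.card (MulAction.fixedBy (Pl B) x) = 1} =
      (H.q + 1) * (A - 1) := by
  classical
  choose C hC hp using exists_frame_pl hd B hσ
  have hfix : ∀ (p : {p : Pl B // PlIso p}) (a : {a : Ag K (C p) // a ≠ 1}) (r : Pl B),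
      (⟨rho K B ⟨a.1.1, Ag_le_Mg K B (hC p) a.1.2⟩, ⟨_, rfl⟩⟩ : (rho K B).range) • r = r ↔ r = p.1 := by
    intro p a r
    rw [hp p]
    exact root_fix hd K B (hC p) (a := ⟨a.1.1, Ag_le_Mg K B (hC p) a.1.2⟩) a.1.2.2
      (fun h => a.2 (Subtype.ext h)) r
  let Φ : (Σ p : {p : Pl B // PlIso p}, {a : Ag K (C p) // a ≠ 1}) →
      {x : (rho K B).range // Nat.card (MulAction.fixedBy (Pl B) x) = 1} := fun z =>
    ⟨⟨rho K B ⟨z.2.1.1, Ag_le_Mg K B (hC z.1) z.2.1.2⟩, ⟨_, rfl⟩⟩, by
      rw [Nat.card_eq_one_iff_unique]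
      exact ⟨⟨fun r r' => Subtype.ext (((hfix z.1 z.2 r.1).1 r.2).trans ((hfix z.1 z.2 r'.1).1 r'.2).symm)⟩,
        ⟨⟨z.1.1, (hfix z.1 z.2 _).2 rfl⟩⟩⟩⟩
  have hΦ : Function.Bijective Φ := by
    refine ⟨?_, fun x => ?_⟩
    · rintro ⟨p, a⟩ ⟨p', a'⟩ h
      have e := congrArg Subtype.val h
      change (⟨rho K B ⟨a.1.1, _⟩, _⟩ : (rho K B).range) = ⟨rho K B ⟨a'.1.1, _⟩, _⟩ at e
      have hh := (hfix p a p.1).2 rfl
      rw [e] at hh
      obtain rfl : p = p' := Subtype.ext ((hfix p' a' p.1).1 hh)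
      congr 1
      by_contra hne
      have hmem : a.1.1 * a'.1.1⁻¹ ∈ Ag K (C p) := mul_mem a.1.2 (inv_mem a'.1.2)
      set b : Mg K B := ⟨a.1.1, Ag_le_Mg K B (hC p) a.1.2⟩ * ⟨a'.1.1, Ag_le_Mg K B (hC p) a'.1.2⟩⁻¹
      have hb : rho K B b = 1 := by
        have e' : rho K B ⟨a.1.1, Ag_le_Mg K B (hC p) a.1.2⟩ =
            rho K B ⟨a'.1.1, Ag_le_Mg K B (hC p) a'.1.2⟩ := congrArg Subtype.val e
        rw [map_mul, map_inv, e', mul_inv_cancel]
      have h0 := (root_fix hd K B (hC p) (a := b) hmem.2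
        (fun h' => hne (Subtype.ext (Subtype.ext (mul_inv_eq_one.1 h'))))
        (plMk B ((0 : F) • (C p).e + (C p).f) (line_vec B (hC p) 0).1 (line_vec B (hC p) 0).2)).1
        (rho_eq_one hd K B hb _)
      obtain ⟨c, hc⟩ := plMk_eq_iff.1 h0
      have := congrArg (fun z => H.h z (C p).e) hc
      simp [H.add_left, H.smul_left, (C p).ee, (C p).fe] at this
    · obtain ⟨⟨x, g, rfl⟩, hx1⟩ := x
      set x : (rho K B).range := ⟨rho K B g, ⟨g, rfl⟩⟩
      obtain ⟨⟨p₀, hp₀⟩⟩ := (Nat.card_eq_one_iff_unique.1 hx1).2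
      haveI := (Nat.card_eq_one_iff_unique.1 hx1).1
      have huniq : ∀ r : Pl B, g • r = r → r = p₀ := fun r hr =>
        congrArg Subtype.val (Subsingleton.elim (⟨r, hr⟩ : MulAction.fixedBy (Pl B) x) ⟨p₀, hp₀⟩)
      have hiso : PlIso p₀ := by
        induction p₀ using pl_ind with | h v hv0 hv => ?_
        rw [plIso_mk]
        by_contra hvv
        obtain ⟨t, ht⟩ := (smul_eq_iff g hv0 hv).1 hp₀
        obtain ⟨d, hw⟩ := g.2.2
        obtain ⟨y, hy0, hy, hne, hyt⟩ := second_eig hd B g.1 hw hv hvv ht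
        obtain ⟨c, hc⟩ := plMk_eq_iff.1 (huniq _ ((smul_eq_iff g hy0 hy).2 hyt))
        exact hne c hc
      set p : {p : Pl B // PlIso p} := ⟨p₀, hiso⟩
      have hgE : g.1 ∈ stE (C p) := by
        rw [mem_stE]
        have h := hp₀
        change g • p₀ = p₀ at h
        rw [show p₀ = _ from hp p] at h
        exact (smul_eq_iff g _ _).1 h
      obtain ⟨d, hw⟩ := g.2.2
      have hw' : g.1.1.1 (C p).w = d • (C p).w := by rw [hC p]; exact hw
      have hother : ∀ y, ea (C p) g.1 * y + ec (C p) g.1 ≠ en (C p) g.1 * y := by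
        intro y hy
        have h := huniq _ ((smul_eq_iff g (line_vec B (hC p) y).1 (line_vec B (hC p) y).2).2
          ((eig_iff hd (C p) hgE hw' y).2 hy))
        rw [show p₀ = _ from hp p] at h
        obtain ⟨c, hc⟩ := plMk_eq_iff.1 h
        have := congrArg (fun z => H.h z (C p).e) hc
        simp [H.add_left, H.smul_left, (C p).ee, (C p).fe] at this
      have han : ea (C p) g.1 = en (C p) g.1 := by
        by_contra hne
        refine hother (ec (C p) g.1 / (en (C p) g.1 - ea (C p) g.1)) ?_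
        have := sub_ne_zero.2 (Ne.symm hne)
        field_simp
        ring
      obtain ⟨hroot, heq⟩ := pow_root hd (C p) hσ hgE hw' han
      have ha : g.1 ^ (H.q + 1) ∈ Ag K (C p) := ⟨pow_mem g.2.1 _, hroot⟩
      have hrho : rho K B g = rho K B ⟨g.1 ^ (H.q + 1), Ag_le_Mg K B (hC p) ha⟩ :=
        rho_congr hd K B (fun v hv => heq v (by rw [hC p]; exact hv))
      refine ⟨⟨p, ⟨⟨_, ha⟩, fun h => ?_⟩⟩, Subtype.ext (Subtype.ext hrho.symm)⟩
      have h1 : x = 1 := Subtype.ext (hrho.trans (by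
        rw [show (⟨g.1 ^ (H.q + 1), Ag_le_Mg K B (hC p) ha⟩ : Mg K B) = 1 from
          Subtype.ext (show g.1 ^ (H.q + 1) = 1 from congrArg Subtype.val h), map_one]
        rfl))
      rw [h1] at hx1
      have hall : MulAction.fixedBy (Pl B) (1 : (rho K B).range) = Set.univ :=
        Set.eq_univ_of_forall fun r => one_smul _ r
      rw [Nat.card_coe_set_eq, hall, Set.ncard_univ, card_pl hd B] at hx1
      have := H.two_le_q
      nlinarith
  haveI : Fintype {p : Pl B // PlIso p} := Fintype.ofFinite _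
  rw [← Nat.card_eq_of_bijective Φ hΦ, Nat.card_sigma]
  have h1 : ∀ p, Nat.card {a : Ag K (C p) // a ≠ 1} = A - 1 := fun p => by
    haveI := Fintype.ofFinite (Ag K (C p))
    rw [← hA (C p) (hC p), Nat.card_eq_fintype_card, Nat.card_eq_fintype_card,
      Fintype.card_subtype_compl, Fintype.card_subtype_eq]
  rw [Finset.sum_congr rfl fun p _ => h1 p, Finset.sum_const, Finset.card_univ,
    ← Nat.card_eq_fintype_card, card_plIso hd B, smul_eq_mul]

/-- The orbit equation of the chord. -/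
theorem chord
    (htrans : ∀ x y : V, x ≠ 0 → y ≠ 0 → H.h x B.w = 0 → H.h y B.w = 0 → H.h x x = 0 → H.h y y = 0 →
      ∃ m ∈ Mg K B, ∃ t : F, m.1.1 x = t • y)
    {A : ℕ} (hA : ∀ C : Frame H, C.w = B.w → Nat.card (Ag K C) = A) :
    ∃ n : ℕ, n = (H.q + 1) * (Nat.card (normHom hd K B).range * A) ∧
      ∃ l : Multiset ℕ, (∀ d ∈ l, d ∣ n ∧ 0 < d ∧ d < n) ∧
        (l.map (fun d => n - d)).sum + (H.q + 1) * (A - 1) = n + H.q - 1 := by
  classical
  let p₀ : Pl B := plMk B B.e B.e_ne B.ew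
  have horb : ∀ p : Pl B, p ∈ MulAction.orbit (rho K B).range p₀ ↔ PlIso p := by
    intro p
    constructor
    · rintro ⟨⟨x, g, rfl⟩, rfl⟩
      show PlIso (g • p₀)
      rw [smul_plMk, plIso_mk, H.map_form, B.ee]
    · intro hp
      induction p using pl_ind with | h v hv0 hv => ?_
      obtain ⟨m, hm, t, ht⟩ := htrans B.e v B.e_ne hv0 B.ew hv B.ee ((plIso_mk _ _).1 hp)
      refine ⟨⟨rho K B ⟨m, hm⟩, ⟨_, rfl⟩⟩, ?_⟩
      show (⟨m, hm⟩ : Mg K B) • p₀ = _
      rw [smul_plMk, plMk_eq_iff]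
      exact ⟨t, ht.symm⟩
  have hc0 : Nat.card (MulAction.orbit (rho K B).range p₀) = H.q + 1 := by
    rw [← card_plIso hd B]
    exact Nat.card_congr (Equiv.subtypeEquivRight horb)
  have hn : Nat.card (rho K B).range = (H.q + 1) * (Nat.card (normHom hd K B).range * A) := by
    rw [← hA B rfl, ← card_stab_image hd K B hσ, ← hc0,
      ← (MulAction.stabilizer (rho K B).range p₀).card_mul_index, MulAction.index_stabilizer,
      Nat.card_coe_set_eq, mul_comm]
    congr 1
    refine (Nat.card_congr (Equiv.ofBijective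
      (fun x : (St K B).map (rho K B) => (⟨⟨x.1, ?_⟩, ?_⟩ : MulAction.stabilizer (rho K B).range p₀))
      ⟨?_, ?_⟩)).symm
    · obtain ⟨g, -, hg⟩ := x.2
      exact ⟨g, hg⟩
    · obtain ⟨g, hg, hgx⟩ := x.2
      rw [MulAction.mem_stabilizer_iff]
      show x.1 p₀ = p₀
      rw [← hgx]
      exact (mem_St K B).1 hg
    · intro x y h
      exact Subtype.ext (congrArg (fun z : MulAction.stabilizer (rho K B).range p₀ => z.1.1) h)
    · rintro ⟨⟨x, g, rfl⟩, hx⟩
      exact ⟨⟨rho K B g, g, (mem_St K B).2 hx, rfl⟩, rfl⟩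
  set n := Nat.card (rho K B).range with hndef
  haveI : Fintype (rho K B).range := Fintype.ofFinite _
  haveI : Fintype (Pl B) := Fintype.ofFinite _
  set Ω := MulAction.orbitRel.Quotient (rho K B).range (Pl B)
  haveI : Fintype Ω := Fintype.ofFinite _
  let size : Ω → ℕ := fun o => Nat.card (MulAction.orbitRel.Quotient.orbit o)
  have hburn : ∑ x : (rho K B).range, Nat.card (MulAction.fixedBy (Pl B) x) = Fintype.card Ω * n := by
    rw [hndef, Nat.card_eq_fintype_card,
      ← MulAction.sum_card_fixedBy_eq_card_orbits_mul_card_group (rho K B).range (Pl B)]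
    exact Finset.sum_congr rfl fun x _ => Nat.card_eq_fintype_card
  have hsum : ∑ o : Ω, size o = H.q ^ 2 + 1 := by
    rw [← card_pl hd B, Nat.card_congr (MulAction.selfEquivSigmaOrbits' (rho K B).range (Pl B)),
      Nat.card_sigma]
  have hdvd : ∀ o : Ω, size o ∣ n ∧ 0 < size o := by
    intro o
    induction o using Quotient.inductionOn with | _ p => ?_
    have e : size ⟦p⟧ = Nat.card (MulAction.orbit (rho K B).range p) := by
      show Nat.card (MulAction.orbitRel.Quotient.orbit ⟦p⟧) = _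
      rw [← MulAction.orbitRel.Quotient.orbit_mk]
    rw [e]
    refine ⟨?_, ?_⟩
    · rw [Nat.card_coe_set_eq, ← MulAction.index_stabilizer]
      exact Subgroup.index_dvd_card _
    · haveI : Nonempty (MulAction.orbit (rho K B).range p) := ⟨⟨p, MulAction.mem_orbit_self _⟩⟩
      exact Nat.card_pos
  have hnpos : 0 < n := Nat.card_pos
  have hle : ∀ o : Ω, size o ≤ n := fun o => Nat.le_of_dvd hnpos (hdvd o).1
  have hfixsum : ∑ x : (rho K B).range, Nat.card (MulAction.fixedBy (Pl B) x) + (H.q + 1) * (A - 1) =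
      H.q ^ 2 + 1 + 2 * (n - 1) := by
    rw [← card_one hd K B hσ hA, Nat.card_eq_fintype_card, Fintype.card_subtype, Finset.card_filter,
      ← Finset.sum_add_distrib, ← Finset.add_sum_erase _ _ (Finset.mem_univ (1 : (rho K B).range))]
    have hall : Nat.card (MulAction.fixedBy (Pl B) (1 : (rho K B).range)) = H.q ^ 2 + 1 := by
      rw [Nat.card_coe_set_eq,
        show MulAction.fixedBy (Pl B) (1 : (rho K B).range) = Set.univ from
          Set.eq_univ_of_forall fun r => one_smul _ r,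
        Set.ncard_univ, card_pl hd B]
    rw [hall, if_neg (by have := H.two_le_q; nlinarith), add_zero]
    congr 1
    rw [Finset.sum_congr rfl (g := fun _ => 2) fun x hx => ?_, Finset.sum_const,
      Finset.card_erase_of_mem (Finset.mem_univ _), Finset.card_univ, ← Nat.card_eq_fintype_card,
      ← hndef, smul_eq_mul, mul_comm]
    have h1 := fix_pos hd K B hσ x
    have h2 := fix_le_two hd K B hσ (Finset.ne_of_mem_erase hx)
    by_cases h : Nat.card (MulAction.fixedBy (Pl B) x) = 1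
    · rw [if_pos h, h]
    · rw [if_neg h]; omega
  let o₀ : Ω := ⟦p₀⟧
  have ho₀ : size o₀ = H.q + 1 := by
    rw [← hc0]
    show Nat.card (MulAction.orbitRel.Quotient.orbit o₀) = _
    rw [MulAction.orbitRel.Quotient.orbit_mk]
  refine ⟨n, hn, ((Finset.univ.erase o₀).filter fun o => size o < n).1.map size, ?_, ?_⟩
  · intro d hd'
    obtain ⟨o, ho, rfl⟩ := Multiset.mem_map.1 hd'
    exact ⟨(hdvd o).1, (hdvd o).2, (Finset.mem_filter.1 ho).2⟩
  · rw [Multiset.map_map]
    have hs : (Multiset.map ((fun d => n - d) ∘ size)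
        ((Finset.univ.erase o₀).filter fun o => size o < n).1).sum =
        ∑ o ∈ Finset.univ.erase o₀, (n - size o) := by
      show ∑ o ∈ (Finset.univ.erase o₀).filter (fun o => size o < n), (n - size o) = _
      refine Finset.sum_filter_of_ne fun o _ ho => ?_
      have := hle o
      omega
    rw [hs]
    have h1 : ∑ o ∈ Finset.univ.erase o₀, (n - size o) + ∑ o ∈ Finset.univ.erase o₀, size o =
        (Fintype.card Ω - 1) * n := by
      rw [← Finset.sum_add_distrib, Finset.sum_congr rfl (g := fun _ => n) fun o _ => by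
        have := hle o; omega, Finset.sum_const, Finset.card_erase_of_mem (Finset.mem_univ _),
        Finset.card_univ, smul_eq_mul]
    have h2 := Finset.add_sum_erase Finset.univ size (Finset.mem_univ o₀)
    rw [hsum, ho₀] at h2
    have h3 : n ≤ Fintype.card Ω * n :=
      Nat.le_mul_of_pos_left _ (Fintype.card_pos_iff.2 ⟨o₀⟩)
    have h5 := hle o₀
    rw [ho₀] at h5
    rw [Nat.sub_mul, one_mul] at h1
    rw [hburn] at hfixsum
    omega

end Cfsg.Lib.Known.PSUThree
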