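import Cfsg.Agent.Known.PSUThree.Torus

/-!
The orbit equation leaves five exceptional orders.
-/

set_option autoImplicit false
set_option linter.unusedSectionVars false
set_option linter.style.haveILetI false
set_option maxHeartbeats 1000000

namespace Cfsg.Lib.Known.PSUThree

open Cfsg.Lib.Classical Cfsg.Lib.Components.UnitaryThree

universe u v

section arith

theorem two_mul_le_of_proper {d n : ℕ} (h : d ∣ n) (hd : d < n) : 2 * d ≤ n := by
  obtain ⟨c, rfl⟩ := h
  rcases c with _ | _ | c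
  · simp at hd
  · simp at hd
  · rw [mul_comm 2 d]
    exact Nat.mul_le_mul_left d (by omega)

theorem three_mul_le_of_proper {d n : ℕ} (h : d ∣ n) (hd : d < n) (h2 : 2 * d ≠ n) : 3 * d ≤ n := by
  obtain ⟨c, rfl⟩ := h
  rcases c with _ | _ | _ | c
  · simp at hd
  · simp at hd
  · omega
  · rw [mul_comm 3 d]
    exact Nat.mul_le_mul_left d (by omega)

theorem sum_one {n : ℕ} {l : Multiset ℕ} (hl : ∀ d ∈ l, d ∣ n ∧ 0 < d ∧ d < n)
    (h0 : 0 < (l.map (fun d => n - d)).sum) (h1 : (l.map (fun d => n - d)).sum < n) :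
    ∃ d, d ∣ n ∧ 0 < d ∧ d < n ∧ (l.map (fun d => n - d)).sum = n - d := by
  induction l using Multiset.induction with
  | empty => simp at h0
  | cons a l _ =>
    obtain ⟨ha1, ha2, ha3⟩ := hl a (Multiset.mem_cons_self _ _)
    refine ⟨a, ha1, ha2, ha3, ?_⟩
    rcases l.empty_or_exists_mem with rfl | ⟨b, hb⟩
    · simp
    · exfalso
      obtain ⟨l', rfl⟩ := Multiset.exists_cons_of_mem hb
      obtain ⟨hb1, -, hb3⟩ := hl b (by simp)
      have := two_mul_le_of_proper ha1 ha3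
      have := two_mul_le_of_proper hb1 hb3
      simp only [Multiset.map_cons, Multiset.sum_cons] at h1
      omega

theorem sum_two {n : ℕ} {l : Multiset ℕ} (hl : ∀ d ∈ l, d ∣ n ∧ 0 < d ∧ d < n)
    (h0 : n ≤ (l.map (fun d => n - d)).sum) (h1 : 2 * (l.map (fun d => n - d)).sum < 3 * n) :
    ∃ a b, (a ∣ n ∧ 0 < a ∧ a < n) ∧ (b ∣ n ∧ 0 < b ∧ b < n) ∧
      (l.map (fun d => n - d)).sum = (n - a) + (n - b) := by
  induction l using Multiset.induction with
  | empty => simp at h0 h1; omega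
  | cons a l _ =>
    have ha := hl a (Multiset.mem_cons_self _ _)
    rcases l.empty_or_exists_mem with rfl | ⟨b, hb⟩
    · simp at h0; omega
    obtain ⟨l', rfl⟩ := Multiset.exists_cons_of_mem hb
    have hb' := hl b (by simp)
    refine ⟨a, b, ha, hb', ?_⟩
    rcases l'.empty_or_exists_mem with rfl | ⟨c, hc⟩
    · simp
    · exfalso
      obtain ⟨l'', rfl⟩ := Multiset.exists_cons_of_mem hc
      have hc' := hl c (by simp)
      have := two_mul_le_of_proper ha.1 ha.2.2
      have := two_mul_le_of_proper hb'.1 hb'.2.2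
      have := two_mul_le_of_proper hc'.1 hc'.2.2
      simp only [Multiset.map_cons, Multiset.sum_cons] at h1
      omega

/-- The arithmetic of one non-regular orbit. -/
theorem root_arith {q A t p i k : ℕ} (hp : p.Prime) (hq : q = p ^ k) (hA : A = p ^ i) (hA2 : 2 ≤ A)
    (hAq : A < q) (ht : 0 < t) (htA : t + 1 ≤ A)
    (hd : (q + 1) * (A - 2) + 2 ∣ (q + 1) * (t * A)) : A = 2 ∨ (q = 9 ∧ A = 3 ∧ p = 3) := by
  by_cases h2 : A = 2
  · exact Or.inl h2
  obtain ⟨B, rfl⟩ : ∃ B, A = B + 3 := ⟨A - 3, by omega⟩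
  rw [show B + 3 - 2 = B + 1 by omega] at hd
  set d := (q + 1) * (B + 1) + 2 with hddef
  have hdvd : d ∣ 2 * (t * (B + 3)) := by
    obtain ⟨d₁, d₂, h₁, h₂, e⟩ := exists_dvd_and_dvd_of_dvd_mul hd
    have hd₁ : d₁ ∣ 2 := by
      have : d₁ ∣ d := e ▸ Dvd.intro _ rfl
      exact (Nat.dvd_add_right (dvd_mul_of_dvd_left h₁ _)).1 (hddef ▸ this)
    exact e ▸ mul_dvd_mul hd₁ h₂
  have hle : d ≤ 2 * (t * (B + 3)) := Nat.le_of_dvd (by positivity) hdvd
  have hik : i < k := (Nat.pow_lt_pow_iff_right hp.one_lt).1 (hA ▸ hq ▸ hAq)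
  have hpA : p * (B + 3) ≤ q := by
    rw [hA, hq, ← pow_succ']
    exact Nat.pow_le_pow_right hp.pos hik
  have hi0 : i ≠ 0 := fun h => by rw [h, pow_zero] at hA; omega
  right
  by_cases hp2 : p = 2
  · exfalso
    subst hp2
    obtain ⟨i', rfl⟩ : ∃ i', i = i' + 1 := ⟨i - 1, by omega⟩
    by_cases hk : k = i' + 2
    · have hq2 : q = 2 * (B + 3) := by rw [hq, hA, hk, pow_succ']
      have e : d = (B + 3) * (2 * B + 3) := by rw [hddef, hq2]; ring
      rw [e, show 2 * (t * (B + 3)) = (B + 3) * (2 * t) by ring] at hdvd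
      have h3 := Nat.dvd_of_mul_dvd_mul_left (by omega) hdvd
      have h4 : 2 * B + 3 ∣ t :=
        (Nat.Coprime.dvd_of_dvd_mul_left (by
          rw [Nat.coprime_comm, Nat.Prime.coprime_iff_not_dvd Nat.prime_two]; omega) h3)
      have h5 := Nat.le_of_dvd ht h4
      -- only `t = A - 1 = 3` would remain, and `A = 3` is not a power of two
      have hB : B = 0 := by omega
      subst hB
      rw [pow_succ'] at hA
      omega
    · have h4A : 4 * (B + 3) ≤ q := by
        rw [hA, hq, show 4 * 2 ^ (i' + 1) = 2 ^ (i' + 3) by ring]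
        exact Nat.pow_le_pow_right two_pos (by omega)
      have h1 : (4 * (B + 3) + 1) * (B + 1) + 2 ≤ d := by
        rw [hddef]
        have := Nat.mul_le_mul_right (B + 1) (show 4 * (B + 3) + 1 ≤ q + 1 by omega)
        omega
      have h2' : 2 * (t * (B + 3)) ≤ 2 * ((B + 2) * (B + 3)) :=
        Nat.mul_le_mul_left 2 (Nat.mul_le_mul_right _ (by omega))
      nlinarith
  · have hp3 : 3 ≤ p := by have := hp.two_le; omega
    have h3A : 3 * (B + 3) ≤ q := (Nat.mul_le_mul_right _ hp3).trans hpA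
    have h1 : (3 * (B + 3) + 1) * (B + 1) + 2 ≤ d := by
      rw [hddef]
      have := Nat.mul_le_mul_right (B + 1) (show 3 * (B + 3) + 1 ≤ q + 1 by omega)
      omega
    have h2' : 2 * (t * (B + 3)) ≤ 2 * ((B + 2) * (B + 3)) :=
      Nat.mul_le_mul_left 2 (Nat.mul_le_mul_right _ (by omega))
    have hB : B = 0 := by nlinarith
    subst hB
    have hp' : p = 3 := by
      have : p ∣ 3 := by
        have h := dvd_pow_self p hi0
        rwa [← hA] at h
      exact (Nat.prime_dvd_prime_iff_eq hp Nat.prime_three).1 this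
    subst hp'
    rw [zero_add, mul_one] at hddef
    have hq9 : q ≤ 9 := by omega
    refine ⟨?_, rfl, rfl⟩
    have hk2 : 2 ≤ k := by omega
    have h9 : 3 ^ 2 ≤ q := hq ▸ Nat.pow_le_pow_right (by norm_num) hk2
    norm_num at h9
    omega

theorem small_cases {q r : ℕ} (h3 : 3 ≤ q) (h5 : q ≠ 5) (hr : r = q - 1) (hr5 : r ≤ 5) :
    q = 3 ∨ q = 4 ∨ q = 6 := by omega

theorem odd_cases {q r e j : ℕ} (h5 : q ≠ 5) (hodd : q % 2 = 1) (hmod : q % 3 = 2)
    (hj : j = 1 ∨ j = 2) (hje : j * e = 3 * (q - 1)) (h6 : 6 ∣ e) (hr : r = e / 6) (hr5 : r ≤ 5) :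
    q = 11 ∧ e = 30 ∨ q = 17 ∧ r = 4 := by
  rcases hj with rfl | rfl <;> omega

end arith

variable {F : Type u} [Field F] [Finite F] {V : Type v} [AddCommGroup V] [Module F V]
  [FiniteDimensional F V] {H : HermSpace F V} {K : Subgroup H.SIsom} (hb : Big K)
include hb

theorem root_case (B : Frame H) (h2 : 2 ≤ Nat.card (Ag K B)) (hlt : Nat.card (Ag K B) < H.q) :
    Nat.card (Ag K B) = 2 ∨ (H.q = 9 ∧ Nat.card (Ag K B) = 3 ∧ CharP F 3) := by
  have hd := hb.dim
  obtain ⟨p, hp⟩ := CharP.exists F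
  haveI : Fact p.Prime := ⟨CharP.char_is_prime F p⟩
  obtain ⟨k, hk⟩ := q_pow (H := H) p
  obtain ⟨i, hi⟩ := IsPGroup.iff_card.1 (Ag_pgroup K hd B p)
  obtain ⟨n, hn, l, hl, hsum⟩ := chord hd K B hb.pow
    (fun x y hx0 hy0 hx hy hxx hyy => trans_root hb B h2 x y hx0 hy0 hx hy hxx hyy)
    (fun C _ => hb.card_Ag C B)
  set A := Nat.card (Ag K B) with hA
  set t := Nat.card (normHom hd K B).range with ht
  obtain ⟨a, ha, ha1⟩ : ∃ a ∈ Ag K B, a ≠ 1 := by
    by_contra! h
    rw [hA, (Subgroup.eq_bot_iff_forall _).2 h, Subgroup.card_bot] at h2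
    omega
  have htA : t + 1 ≤ A := card_normHom_le hd K B hb.pow ha ha1
  have htpos : 0 < t := Nat.card_pos
  have hnbig : (H.q + 1) * A ≤ n :=
    hn ▸ Nat.mul_le_mul_left _ (Nat.le_mul_of_pos_left _ htpos)
  have hA1 : (H.q + 1) * (A - 1) + (H.q + 1) = (H.q + 1) * A := by
    rw [← Nat.mul_succ, show Nat.succ (A - 1) = A by omega]
  have hA1' : H.q + 1 ≤ (H.q + 1) * (A - 1) := Nat.le_mul_of_pos_right _ (by omega)
  obtain ⟨d, hdn, hd0, hdlt, hde⟩ := sum_one hl (by omega) (by omega)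
  have hA2 : (H.q + 1) * (A - 2) + (H.q + 1) = (H.q + 1) * (A - 1) := by
    rw [← Nat.mul_succ, show Nat.succ (A - 2) = A - 1 by omega]
  have hd' : d = (H.q + 1) * (A - 2) + 2 := by omega
  rw [hd', hn] at hdn
  rcases root_arith (Fact.out : p.Prime) hk hi h2 hlt htpos htA hdn with h | ⟨h1, h2, h3⟩
  · exact Or.inl h
  · exact Or.inr ⟨h1, h2, h3 ▸ hp⟩

/-- The translation parts of `N`. -/
theorem card_Ng_le (B : Frame H) (S : Set F) (hS : ∀ g ∈ Ng K B, eb B g ∈ S) :
    Nat.card (Ng K B) ≤ Nat.card (Ag K B) * Nat.card S := by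
  classical
  rw [← Nat.card_prod]
  have hpick : ∀ x : S, ∃ g : Ng K B, (∃ g' : Ng K B, eb B g'.1 = x) → eb B g.1 = x := fun x => by
    by_cases h : ∃ g' : Ng K B, eb B g'.1 = x
    · obtain ⟨g, hg⟩ := h
      exact ⟨g, fun _ => hg⟩
    · exact ⟨1, fun h' => absurd h' h⟩
  choose s hs using hpick
  have hmem : ∀ g : Ng K B, g.1 * (s ⟨_, hS g.1 g.2⟩).1⁻¹ ∈ Ag K B := fun g => by
    have hm : g.1 * (s ⟨_, hS g.1 g.2⟩).1⁻¹ ∈ Ng K B := mul_mem g.2 (inv_mem (s _).2)
    refine ⟨hm.1, mem_root_of_eb hb.dim B hm.2 ?_⟩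
    have h := (eb_mul hb.dim B hm.2 (s ⟨_, hS g.1 g.2⟩).2.2).1
    rw [inv_mul_cancel_right, hs _ ⟨g, rfl⟩] at h
    simpa using h
  refine Nat.card_le_card_of_injective (fun g => ((⟨_, hmem g⟩, ⟨_, hS g.1 g.2⟩) : Ag K B × S))
    fun g g' h => Subtype.ext ?_
  have h1 : g.1 * (s ⟨_, hS g.1 g.2⟩).1⁻¹ = g'.1 * (s ⟨_, hS g'.1 g'.2⟩).1⁻¹ :=
    congrArg (fun x : Ag K B × S => (x.1 : H.SIsom)) h
  rw [show (⟨_, hS g.1 g.2⟩ : S) = ⟨_, hS g'.1 g'.2⟩ from congrArg Prod.snd h] at h1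
  exact mul_right_cancel h1

theorem rng_dvd_of_pow (B : Frame H) {m : ℕ} (h : ∀ g : Lg K B, ea B g.1 ^ m = 1) :
    Nat.card (rng K hb.dim B) ∣ m := by
  haveI : IsCyclic (rng K hb.dim B) := inferInstance
  obtain ⟨u, hu⟩ := IsCyclic.exists_generator (α := rng K hb.dim B)
  rw [← orderOf_eq_card_of_forall_mem_zpowers hu]
  refine orderOf_dvd_of_pow_eq_one (Subtype.ext (Units.ext ?_))
  obtain ⟨g, hg⟩ := u.2
  have hg' : (u.1 : F) = ea B g.1 := by rw [← hg, eaHom_apply]
  rw [Subgroup.coe_pow, Units.val_pow_eq_pow_val, hg', h g]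
  rfl

/-- Root groups of order two. -/
theorem two_root (B : Frame H) (h2 : Nat.card (Ag K B) = 2) :
    (H.q = 4 ∧ (Nat.card (Lg K B) = 20 ∨ Nat.card (Lg K B) = 40)) ∨
      (H.q = 8 ∧ Nat.card (Lg K B) = 72) := by
  classical
  have hd := hb.dim
  have hq3 := hb.three
  obtain ⟨p, hp⟩ := CharP.exists F
  haveI : Fact p.Prime := ⟨CharP.char_is_prime F p⟩
  obtain ⟨k, hk⟩ := q_pow (H := H) p
  obtain ⟨i, hi⟩ := IsPGroup.iff_card.1 (Ag_pgroup K hd B p)
  have hp2 : p = 2 := by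
    have hi0 : i ≠ 0 := fun h => by rw [h, pow_zero, h2] at hi; omega
    have : p ∣ 2 := h2 ▸ hi ▸ dvd_pow_self p hi0
    exact (Nat.prime_dvd_prime_iff_eq (Fact.out : p.Prime) Nat.prime_two).1 this
  have h20 : (2 : F) = 0 := by
    have := CharP.cast_eq_zero F p
    rw [hp2] at this
    exact_mod_cast this
  obtain ⟨a, ha, ha1⟩ : ∃ a ∈ Ag K B, a ≠ 1 := by
    by_contra! h
    rw [(Subgroup.eq_bot_iff_forall _).2 h, Subgroup.card_bot] at h2
    omega
  have huniq : ∀ x ∈ Ag K B, x ≠ 1 → x = a := by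
    intro x hx hx1
    haveI := Fintype.ofFinite (Ag K B)
    rw [Nat.card_eq_fintype_card] at h2
    have := (Nat.le_of_eq h2)
    by_contra hne
    have h3 : 2 < Fintype.card (Ag K B) := Fintype.two_lt_card_iff.2
      ⟨⟨x, hx⟩, ⟨a, ha⟩, 1, fun h => hne (congrArg Subtype.val h),
        fun h => hx1 (congrArg Subtype.val h), fun h => ha1 (congrArg Subtype.val h)⟩
    omega
  have hane : ec B a ≠ 0 := fun h => ha1 (ext_fixE hd B ((root_le_fixE B).1 ha.2) (one_mem _)
    (((root_le_fixE B).2 _ ha.2).trans (eb_one B).1.symm) (h.trans (eb_one B).2.symm))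
  set c := ec B a
  have hnorm : ∀ g : Lg K B, ea B g.1 ^ (H.q + 1) = 1 := by
    intro g
    obtain ⟨hm, hv⟩ := conj_ec hd B g.2.2 ha.2
    have hx : g.1 * a * g.1⁻¹ = a := huniq _ ⟨K.mul_mem (K.mul_mem g.2.1 ha.1) (K.inv_mem g.2.1), hm⟩
      fun h => ha1 (conj_eq_one_iff.1 h)
    rw [hx] at hv
    rw [pow_succ', ← hb.pow]
    exact mul_right_cancel₀ hane (by rw [one_mul]; exact hv.symm)
  have he := rng_dvd_of_pow hb B hnorm
  -- the norms of the translation parts
  let W : AddSubgroup F :=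
    { carrier := {x | ∃ g ∈ Ng K B, eb B g = x}
      add_mem' := by
        rintro _ _ ⟨g, hg, rfl⟩ ⟨g', hg', rfl⟩
        exact ⟨g * g', mul_mem hg hg', (eb_mul hd B hg.2 hg'.2).1⟩
      zero_mem' := ⟨1, one_mem _, (eb_one B).1⟩
      neg_mem' := by
        rintro _ ⟨g, hg, rfl⟩
        refine ⟨g⁻¹, inv_mem hg, ?_⟩
        have h := (eb_mul hd B ((fixE B).inv_mem hg.2) hg.2).1
        rw [inv_mul_cancel, (eb_one B).1] at h
        linear_combination -h }
  have hWc : ∀ x ∈ W, x ≠ 0 → H.σ x * x = c := by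
    rintro x ⟨g, hg, rfl⟩ hx
    have hmem : g * g ∈ Ag K B :=
      ⟨K.mul_mem hg.1 hg.1, mem_root_of_eb hd B ((fixE B).mul_mem hg.2 hg.2)
        (by rw [(eb_mul hd B hg.2 hg.2).1]; linear_combination (eb B g) * h20)⟩
    have h := (eb_mul hd B hg.2 hg.2).2
    have hne : g * g ≠ 1 := by
      intro h1
      rw [h1, (eb_one B).2] at h
      have h' : H.σ (eb B g) * eb B g = 0 := by linear_combination h + (ec B g) * h20
      rcases mul_eq_zero.1 h' with h'' | h''
      · exact hx (H.conj.eq_zero.1 h'')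
      · exact hx h''
    rw [huniq _ hmem hne] at h
    linear_combination h + (ec B g - c) * h20
  have hWle : Nat.card W ≤ 4 := by
    by_contra! hW
    haveI := Fintype.ofFinite W
    rw [Nat.card_eq_fintype_card] at hW
    obtain ⟨x₁, hx₁⟩ : ∃ x : W, x ≠ 0 := Fintype.exists_ne_of_one_lt_card (by omega) 0
    obtain ⟨x₂, hx₂⟩ : ∃ x : W, x ∉ ({0, x₁} : Finset W) := by
      by_contra! h
      have := (Finset.card_le_card (fun x _ => h x : (Finset.univ : Finset W) ⊆ {0, x₁})).trans Finset.card_le_two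
      rw [Finset.card_univ] at this
      omega
    obtain ⟨x₃, hx₃⟩ : ∃ x : W, x ∉ ({0, x₁, x₂, x₁ + x₂} : Finset W) := by
      by_contra! h
      have := (Finset.card_le_card (fun x _ => h x : (Finset.univ : Finset W) ⊆ {0, x₁, x₂, x₁ + x₂})).trans
        Finset.card_le_four
      rw [Finset.card_univ] at this
      omega
    simp only [Finset.mem_insert, Finset.mem_singleton, not_or] at hx₂ hx₃
    obtain ⟨n20, n21⟩ := hx₂
    obtain ⟨n30, n31, n32, n33⟩ := hx₃
    have hneg : ∀ x y : W, x + y = 0 → x = y := fun x y h => Subtype.ext (by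
      have h' : (x.1 : F) + y.1 = 0 := congrArg Subtype.val h
      linear_combination h' - y.1 * h20)
    have e12 : x₁ + x₂ ≠ 0 := fun h => n21 (hneg _ _ h).symm
    have e13 : x₁ + x₃ ≠ 0 := fun h => n31 (hneg _ _ h).symm
    have e23 : x₂ + x₃ ≠ 0 := fun h => n32 (hneg _ _ h).symm
    have e123 : x₁ + x₂ + x₃ ≠ 0 := fun h => n33 (hneg _ _ h).symm
    have hv : ∀ x : W, x ≠ 0 → H.σ x.1 * x.1 = c := fun x hx => hWc x.1 x.2 fun h => hx (Subtype.ext h)
    have a1 := hv _ hx₁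
    have a2 := hv _ n20
    have a3 := hv _ n30
    have a12 := hv _ e12
    have a13 := hv _ e13
    have a23 := hv _ e23
    have a123 := hv _ e123
    simp only [AddSubgroup.coe_add, map_add] at a12 a13 a23 a123
    have : c = 0 := by
      linear_combination -(a1 + a2 + a3 - a12 - a13 - a23 + a123)
    exact hane this
  have hN : Nat.card (Ng K B) ≤ 8 := by
    have := card_Ng_le hb B (W : Set F) fun g hg => ⟨g, hg, rfl⟩
    rw [h2] at this
    exact this.trans (Nat.mul_le_mul_left 2 hWle)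
  obtain ⟨u, hu⟩ := IsPGroup.iff_card.1 (Ng_pgroup K hd B p)
  rw [hp2] at hu hk
  have hL := hb.L_ge B
  rw [card_L K hd B] at hL ⊢
  have hele := Nat.le_of_dvd (by omega) he
  have hu3 : u ≤ 3 := by
    by_contra! h
    have := Nat.pow_le_pow_right two_pos h
    norm_num at this
    omega
  have hq9 : H.q ≤ 9 := by
    have h1 : Nat.card (Ng K B) * Nat.card (rng K hd B) ≤ 8 * (H.q + 1) := Nat.mul_le_mul hN hele
    have h2 := hL.trans h1
    rw [show H.q ^ 2 - 1 = (H.q + 1) * (H.q - 1) by rw [← Nat.sq_sub_sq, one_pow],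
      mul_comm 8] at h2
    have := Nat.le_of_mul_le_mul_left h2 (by omega)
    omega
  have hk3 : k ≤ 3 := by
    by_contra! h
    have := Nat.pow_le_pow_right two_pos h
    norm_num at this
    omega
  have hq : H.q = 4 ∨ H.q = 8 := by
    interval_cases k <;> omega
  set e := Nat.card (rng K hd B)
  rw [hu] at hL ⊢
  rcases hq with hq | hq <;> rw [hq] at he hele hL ⊢
  · left
    norm_num at he hL
    rcases (Nat.dvd_prime (by norm_num)).1 he with h | h <;> rw [h] at hL ⊢ <;>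
      interval_cases u <;> revert hL <;> norm_num
  · right
    norm_num at he hL
    have : e ∈ Nat.divisors 9 := Nat.mem_divisors.2 ⟨he, by norm_num⟩
    rw [show Nat.divisors 9 = {1, 3, 9} by decide] at this
    simp only [Finset.mem_insert, Finset.mem_singleton] at this
    rcases this with h | h | h <;> rw [h] at hL ⊢ <;> interval_cases u <;> revert hL <;> norm_num

/-- Root groups of order three in `SU₃(9)`. -/
theorem three_root (B : Frame H) (hq : H.q = 9) (h3 : Nat.card (Ag K B) = 3) [CharP F 3] :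
    ∃ u e, u ≤ 5 ∧ e ∣ 20 ∧ Nat.card (Lg K B) = 3 ^ u * e := by
  classical
  have hd := hb.dim
  haveI : Fact (Nat.Prime 3) := ⟨Nat.prime_three⟩
  have h30 : (3 : F) = 0 := by
    have := CharP.cast_eq_zero F 3
    exact_mod_cast this
  obtain ⟨u, hu⟩ := IsPGroup.iff_card.1 (Ng_pgroup K hd B 3)
  obtain ⟨a, ha, ha1⟩ : ∃ a ∈ Ag K B, a ≠ 1 := by
    by_contra! h
    rw [(Subgroup.eq_bot_iff_forall _).2 h, Subgroup.card_bot] at h3
    omega
  have hane : ec B a ≠ 0 := fun h => ha1 (ext_fixE hd B ((root_le_fixE B).1 ha.2) (one_mem _)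
    (((root_le_fixE B).2 _ ha.2).trans (eb_one B).1.symm) (h.trans (eb_one B).2.symm))
  have hz : Subgroup.zpowers a = Ag K B := by
    refine Subgroup.eq_of_le_of_card_ge (Subgroup.zpowers_le.2 ha) ?_
    rw [h3, Nat.card_zpowers, orderOf_eq_prime (root_pow_char hd B 3 ha.2) ha1]
  have he : Nat.card (rng K hd B) ∣ 20 := rng_dvd_of_pow hb B fun g => by
    obtain ⟨hm, hv⟩ := conj_ec hd B g.2.2 ha.2
    have hx : g.1 * a * g.1⁻¹ ∈ Subgroup.zpowers a :=
      hz ▸ ⟨K.mul_mem (K.mul_mem g.2.1 ha.1) (K.inv_mem g.2.1), hm⟩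
    obtain ⟨m, hm2, hm'⟩ : ∃ m < 3, a ^ m = g.1 * a * g.1⁻¹ := by
      rw [← mem_powers_iff_mem_zpowers, mem_powers_iff_mem_range_orderOf,
        orderOf_eq_prime (root_pow_char hd B 3 ha.2) ha1] at hx
      simpa using hx
    rw [← hm', root_pow hd B ha.2] at hv
    have hx' := mul_right_cancel₀ hane hv
    rw [show (20 : ℕ) = (H.q + 1) * 2 by rw [hq], pow_mul, pow_succ' (ea B g.1) H.q, ← hb.pow, ← hx']
    interval_cases m
    · exfalso
      rw [Nat.cast_zero] at hx'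
      exact mul_ne_zero (coords hd B g.2.2).2.1 ((map_ne_zero _).2 (coords hd B g.2.2).2.1) hx'.symm
    · norm_num
    · push_cast
      linear_combination h30
  refine ⟨u, _, ?_, he, by rw [card_L K hd B, hu]⟩
  have hle := card_Ng_le hb B Set.univ fun g _ => Set.mem_univ _
  rw [hu, h3, Nat.card_univ, H.card_field, hq] at hle
  by_contra! h
  have := Nat.pow_le_pow_right (show 0 < 3 by norm_num) h
  norm_num at this hle
  omega

/-- No root elements. -/
theorem no_root (h5 : H.q ≠ 5) (hA : ∀ C : Frame H, Nat.card (Ag K C) = 1) (B : Frame H) :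
    (H.q = 3 ∧ Nat.card (Lg K B) = 8) ∨
      (H.q = 11 ∧ Nat.card (Lg K B) = 330 ∧ ∀ C : Frame H, Nat.card (Ng K C) = 11) := by
  have hd := hb.dim
  have hq3 := hb.three
  obtain ⟨D, htrans, hrange⟩ := torus_chord hb hA B
  obtain ⟨n, hn, l, hl, hsum⟩ := chord hd K D hb.pow htrans (fun C _ => hA C)
  rw [hrange, card_torus hb hA D, mul_one] at hn
  rw [Nat.sub_self, mul_zero, add_zero] at hsum
  set e := Nat.card (rng K hd D) with hedef
  set r := e / Nat.gcd e (H.q + 1) with hr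
  have key : 2 ≤ r → ∃ a b, (a ∣ n ∧ 0 < a ∧ a < n) ∧ (b ∣ n ∧ 0 < b ∧ b < n) ∧
      a + b + (H.q - 1) = n ∧ r ≤ 5 := by
    intro hr2
    have hn2 : (H.q + 1) * 2 ≤ n := hn ▸ Nat.mul_le_mul_left _ hr2
    obtain ⟨a, b, ha, hb', hab⟩ := sum_two hl (by omega) (by omega)
    refine ⟨a, b, ha, hb', by omega, ?_⟩
    have e1 : a + b + (H.q - 1) = n := by omega
    have h2a := two_mul_le_of_proper ha.1 ha.2.2
    have h2b := two_mul_le_of_proper hb'.1 hb'.2.2
    have h6 : n ≤ 6 * (H.q - 1) := by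
      by_cases hae : 2 * a = n
      · have := three_mul_le_of_proper hb'.1 hb'.2.2 (by omega)
        omega
      · have := three_mul_le_of_proper ha.1 ha.2.2 hae
        omega
    by_contra! h
    have : (H.q + 1) * 6 ≤ n := hn ▸ Nat.mul_le_mul_left _ h
    omega
  rcases two_cases hb hA D with ⟨hN, he⟩ | ⟨hodd, hmod, hN, j, hj, hje, heven⟩
  · left
    have he' : e = (H.q + 1) * (H.q - 1) := by
      rw [hedef, he, ← Nat.sq_sub_sq, one_pow]
    have hr' : r = H.q - 1 := by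
      rw [hr, he', Nat.gcd_mul_right_left, Nat.mul_div_cancel_left _ (by omega)]
    have hr2 : 2 ≤ r := by omega
    obtain ⟨a, b, ha, hb', hab, hr5⟩ := key hr2
    have hq := small_cases hq3 h5 hr' hr5
    refine ⟨?_, ?_⟩
    · rcases hq with hq | hq | hq
      · exact hq
      all_goals exfalso
      all_goals rw [hr', hq] at hn
      all_goals rw [hn] at ha hb' hab
      all_goals norm_num [hq] at ha hb' hab
      · have key : ∀ a ∈ Nat.properDivisors 15, ∀ b ∈ Nat.properDivisors 15, a + b + 3 ≠ 15 := by decide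
        exact key a (Nat.mem_properDivisors.2 ⟨ha.1, ha.2.2⟩) b
          (Nat.mem_properDivisors.2 ⟨hb'.1, hb'.2.2⟩) hab
      · have key : ∀ a ∈ Nat.properDivisors 35, ∀ b ∈ Nat.properDivisors 35, a + b + 5 ≠ 35 := by decide
        exact key a (Nat.mem_properDivisors.2 ⟨ha.1, ha.2.2⟩) b
          (Nat.mem_properDivisors.2 ⟨hb'.1, hb'.2.2⟩) hab
    · rcases hq with hq | hq | hq
      · rw [hb.card_Lg B D, card_L K hd D, hN, he, hq]; norm_num
      all_goals exfalso
      all_goals rw [hr', hq] at hn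
      all_goals rw [hn] at ha hb' hab
      all_goals norm_num [hq] at ha hb' hab
      · have key : ∀ a ∈ Nat.properDivisors 15, ∀ b ∈ Nat.properDivisors 15, a + b + 3 ≠ 15 := by decide
        exact key a (Nat.mem_properDivisors.2 ⟨ha.1, ha.2.2⟩) b
          (Nat.mem_properDivisors.2 ⟨hb'.1, hb'.2.2⟩) hab
      · have key : ∀ a ∈ Nat.properDivisors 35, ∀ b ∈ Nat.properDivisors 35, a + b + 5 ≠ 35 := by decide
        exact key a (Nat.mem_properDivisors.2 ⟨ha.1, ha.2.2⟩) b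
          (Nat.mem_properDivisors.2 ⟨hb'.1, hb'.2.2⟩) hab
  · right
    rw [← hedef] at hje heven
    obtain ⟨i, hi⟩ := heven
    have h6e : 6 ∣ e := by rcases hj with rfl | rfl <;> omega
    have hg : Nat.gcd e (H.q + 1) = 6 := by
      refine Nat.dvd_antisymm ?_ (Nat.dvd_gcd h6e (by omega))
      set g := Nat.gcd e (H.q + 1)
      have g1 : g ∣ 3 * (H.q - 1) := hje ▸ dvd_mul_of_dvd_right (Nat.gcd_dvd_left _ _) j
      have g2 : g ∣ 3 * (H.q + 1) := dvd_mul_of_dvd_right (Nat.gcd_dvd_right _ _) 3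
      have := Nat.dvd_sub g2 g1
      rwa [show 3 * (H.q + 1) - 3 * (H.q - 1) = 6 by omega] at this
    have hr' : r = e / 6 := by rw [hr, hg]
    have hr2 : 2 ≤ r := by rcases hj with rfl | rfl <;> omega
    obtain ⟨a, b, ha, hb', hab, hr5⟩ := key hr2
    have hq := odd_cases h5 hodd hmod hj hje h6e hr' hr5
    rcases hq with ⟨hq, he30⟩ | ⟨hq, hr4⟩
    · refine ⟨hq, ?_, fun C => ?_⟩
      · rw [hb.card_Lg B D, card_L K hd D, hN, ← hedef, he30, hq]
      · rw [hb.card_Ng C D, hN, hq]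
    · exfalso
      rw [hr4, hq] at hn
      rw [hn] at ha hb' hab
      norm_num [hq] at ha hb' hab
      have key : ∀ a ∈ Nat.properDivisors 72, ∀ b ∈ Nat.properDivisors 72, a + b + 16 ≠ 72 := by decide
      exact key a (Nat.mem_properDivisors.2 ⟨ha.1, ha.2.2⟩) b
        (Nat.mem_properDivisors.2 ⟨hb'.1, hb'.2.2⟩) hab

end Cfsg.Lib.Known.PSUThree
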